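import Mathlib
import Cfsg.Agent.H540.ClassNum

/-!
# Class numbers: central quotients and small groups (for the project KGV of helper960)

* `ker_mul_le` : `|Z| k(X / Z) ≤ t k(X)` if `Z` is central and at most `t` elements of `Z` are in the kernel of a
  homomorphism to a commutative group;
* `le_five` : `k(Y) ≤ 5` if `|Y|` divides `8` and `Y` is not commutative or `|Y| < 8`;
* `nine_le` : `k(X) ≥ 9` if `X` has a central subgroup of order `2` with commutative quotient of order `8`.
-/

set_option autoImplicit false

namespace Cfsg.Agent.H849.KGV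

open Cfsg.Agent.H540.ClassNum

/-- sums over fibres -/
theorem sum_comp_eq {X Y : Type*} [Group X] [Group Y] [Fintype X] [Fintype Y] (π : X →* Y)
    (hπ : Function.Surjective π) (f : Y → ℕ) :
    ∑ x : X, f (π x) = Nat.card π.ker * ∑ y : Y, f y := by
  classical
  rw [Finset.mul_sum]
  rw [← Finset.sum_fiberwise (s := (Finset.univ : Finset X)) (g := fun x => π x) (f := fun x => f (π x))]
  refine Finset.sum_congr rfl fun y _ => ?_
  have h1 : ∀ x ∈ (Finset.univ.filter fun x : X => π x = y), f (π x) = f y := by
    intro x hx
    rw [(Finset.mem_filter.1 hx).2]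
  rw [Finset.sum_congr rfl h1, Finset.sum_const, smul_eq_mul]
  congr 1
  obtain ⟨x₀, hx₀⟩ := hπ y
  rw [← Fintype.card_subtype, ← Nat.card_eq_fintype_card]
  refine Nat.card_congr
    { toFun := fun x => ⟨x₀⁻¹ * x.1, by
        rw [MonoidHom.mem_ker, map_mul, map_inv, hx₀, x.2, inv_mul_cancel]⟩
      invFun := fun z => ⟨x₀ * z.1, by
        rw [map_mul, hx₀, (MonoidHom.mem_ker).1 z.2, mul_one]⟩
      left_inv := fun x => Subtype.ext (by show x₀ * (x₀⁻¹ * x.1) = x.1; group)
      right_inv := fun z => Subtype.ext (by show x₀⁻¹ * (x₀ * z.1) = z.1; group) }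

/-- the order of a preimage -/
theorem card_comap {X Y : Type*} [Group X] [Group Y] [Finite X] (π : X →* Y)
    (hπ : Function.Surjective π) (H : Subgroup Y) :
    Nat.card (H.comap π) = Nat.card π.ker * Nat.card H := by
  have : Finite Y := Finite.of_surjective π hπ
  have h1 := (H.comap π).card_mul_index
  have h2 := H.card_mul_index
  have h3 := π.ker.card_mul_index
  rw [Subgroup.index_comap_of_surjective H hπ] at h1
  rw [Subgroup.index_ker, MonoidHom.range_eq_top.2 hπ, Subgroup.card_top] at h3
  have h4 : 0 < H.index := Nat.pos_of_ne_zero Subgroup.index_ne_zero_of_finite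
  apply Nat.eq_of_mul_eq_mul_right h4
  rw [h1, mul_assoc, h2, h3]

/-- **central quotients** -/
theorem ker_mul_le {X Y A : Type*} [Group X] [Group Y] [CommGroup A] [Finite X] (π : X →* Y)
    (hπ : Function.Surjective π) (δ : X →* A) (t : ℕ)
    (ht : Nat.card (π.ker ⊓ δ.ker : Subgroup X) ≤ t) :
    Nat.card π.ker * Nat.card (ConjClasses Y) ≤ t * Nat.card (ConjClasses X) := by
  classical
  have : Finite Y := Finite.of_surjective π hπ
  have := Fintype.ofFinite X
  have := Fintype.ofFinite Y
  have key : ∀ x : X, Nat.card π.ker * cent (π x) (⊤ : Subgroup Y) ≤ t * cent x (⊤ : Subgroup X) := by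
    intro x
    rw [cent_top, cent_top, ← card_comap π hπ]
    -- the commutator map
    have h1 : ∀ y : (Subgroup.centralizer {π x}).comap π, (y : X) * x * (y : X)⁻¹ * x⁻¹ ∈ π.ker ⊓ δ.ker := by
      rintro ⟨y, hy⟩
      rw [Subgroup.mem_comap, Subgroup.mem_centralizer_singleton_iff] at hy
      refine Subgroup.mem_inf.2 ⟨?_, ?_⟩
      · rw [MonoidHom.mem_ker, map_mul, map_mul, map_mul, map_inv, map_inv, hy]
        group
      · rw [MonoidHom.mem_ker, map_mul, map_mul, map_mul, map_inv, map_inv, mul_comm (δ y) (δ x)]
        group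
    let c : (Subgroup.centralizer {π x}).comap π → (π.ker ⊓ δ.ker : Subgroup X) := fun y => ⟨_, h1 y⟩
    have h2 : ∀ y : (Subgroup.centralizer {π x}).comap π, ∃ y' : (Subgroup.centralizer {π x}).comap π,
        c y' = c y := fun y => ⟨y, rfl⟩
    let s : (π.ker ⊓ δ.ker : Subgroup X) → (Subgroup.centralizer {π x}).comap π := fun z =>
      if h : ∃ y, c y = z then h.choose else 1
    have hs : ∀ y, c (s (c y)) = c y := by
      intro y
      have h : ∃ y', c y' = c y := ⟨y, rfl⟩
      show c (if h : ∃ y', c y' = c y then h.choose else 1) = c y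
      rw [dif_pos h]
      exact h.choose_spec
    have h3 : ∀ y : (Subgroup.centralizer {π x}).comap π,
        ((s (c y) : X))⁻¹ * (y : X) ∈ Subgroup.centralizer ({x} : Set X) := by
      intro y
      rw [Subgroup.mem_centralizer_singleton_iff]
      have h4 : (s (c y) : X) * x * (s (c y) : X)⁻¹ * x⁻¹ = (y : X) * x * (y : X)⁻¹ * x⁻¹ :=
        congrArg Subtype.val (hs y)
      have h5 := mul_right_cancel h4
      have h6 : (s (c y) : X)⁻¹ * (y : X) * x = (s (c y) : X)⁻¹ * ((y : X) * x * (y : X)⁻¹) * (y : X) := by group
      rw [h6, ← h5]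
      group
    let F : (Subgroup.centralizer {π x}).comap π →
        (π.ker ⊓ δ.ker : Subgroup X) × Subgroup.centralizer ({x} : Set X) := fun y =>
      (c y, ⟨_, h3 y⟩)
    have hF : Function.Injective F := by
      intro y y' h
      have h7 : c y = c y' := congrArg Prod.fst h
      have h8 : ((s (c y) : X))⁻¹ * (y : X) = ((s (c y') : X))⁻¹ * (y' : X) :=
        congrArg Subtype.val (congrArg Prod.snd h)
      rw [h7] at h8
      exact Subtype.ext (mul_left_cancel h8)
    refine (Nat.card_le_card_of_injective F hF).trans ?_
    rw [Nat.card_prod]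
    exact Nat.mul_le_mul_right _ ht
  have hX : 0 < Nat.card X := Nat.card_pos
  refine Nat.le_of_mul_le_mul_right ?_ hX
  have hcard : Nat.card X = Nat.card π.ker * Nat.card Y := by
    have h3 := π.ker.card_mul_index
    rw [Subgroup.index_ker, MonoidHom.range_eq_top.2 hπ, Subgroup.card_top] at h3
    exact h3.symm
  calc Nat.card π.ker * Nat.card (ConjClasses Y) * Nat.card X
      = Nat.card π.ker * (Nat.card π.ker * (Nat.card (ConjClasses Y) * Nat.card Y)) := by rw [hcard]; ring
    _ = Nat.card π.ker * ∑ x : X, cent (π x) (⊤ : Subgroup Y) := by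
        rw [card_conjClasses_mul_card, sum_comp_eq π hπ (fun y => cent y ⊤)]
    _ = ∑ x : X, Nat.card π.ker * cent (π x) (⊤ : Subgroup Y) := Finset.mul_sum _ _ _
    _ ≤ ∑ x : X, t * cent x (⊤ : Subgroup X) := Finset.sum_le_sum fun x _ => key x
    _ = t * Nat.card (ConjClasses X) * Nat.card X := by
        rw [← Finset.mul_sum, ← card_conjClasses_mul_card, mul_assoc]

/-- a noncommutative group has a proper centralizer -/
theorem le_five {Y : Type*} [Group Y] [Finite Y] (h8 : Nat.card Y ∣ 8)
    (h : Nat.card Y ≠ 8 ∨ ∃ x y : Y, x * y ≠ y * x) : Nat.card (ConjClasses Y) ≤ 5 := by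
  classical
  have hle : Nat.card (ConjClasses Y) ≤ Nat.card Y := card_conjClasses_le_card
  have hd : Nat.card Y = 1 ∨ Nat.card Y = 2 ∨ Nat.card Y = 4 ∨ Nat.card Y = 8 := by
    have h1 : Nat.card Y ∣ 2 ^ 3 := h8
    rw [Nat.dvd_prime_pow Nat.prime_two] at h1
    obtain ⟨k, hk, hk'⟩ := h1
    interval_cases k <;> simp at hk' <;> omega
  rcases hd with h1 | h1 | h1 | h1
  · omega
  · omega
  · omega
  · rcases h with h | ⟨x, y, hxy⟩
    · exact absurd h1 h
    -- the center has order at most 2
    have := Fintype.ofFinite Y
    have hZ : Nat.card (Subgroup.center Y) ≤ 2 := by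
      have h2 : Nat.card (Subgroup.center Y) ∣ 2 ^ 3 := by
        have := Subgroup.card_subgroup_dvd_card (Subgroup.center Y)
        rw [h1] at this
        exact this
      rw [Nat.dvd_prime_pow Nat.prime_two] at h2
      obtain ⟨k, hk, hk'⟩ := h2
      by_contra hcon
      have hk2 : 2 ≤ k := by
        by_contra hk2
        have : k ≤ 1 := by omega
        apply hcon
        rw [hk']
        calc 2 ^ k ≤ 2 ^ 1 := Nat.pow_le_pow_right (by norm_num) this
          _ = 2 := by norm_num
      -- the index of the center is 1 or 2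
      have h3 := (Subgroup.center Y).card_mul_index
      have h4 : (Subgroup.center Y).index ≤ 2 := by
        have h5 : 2 ^ 2 ≤ Nat.card (Subgroup.center Y) := by
          rw [hk']; exact Nat.pow_le_pow_right (by norm_num) hk2
        nlinarith [h3, h1]
      -- centralizer of x
      have h5 : Subgroup.center Y ≤ Subgroup.centralizer {x} := by
        intro z hz
        rw [Subgroup.mem_centralizer_singleton_iff]
        exact (Subgroup.mem_center_iff.1 hz x).symm
      have h6 : x ∈ Subgroup.centralizer ({x} : Set Y) := by
        rw [Subgroup.mem_centralizer_singleton_iff]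
      have h7 : y ∉ Subgroup.centralizer ({x} : Set Y) := by
        rw [Subgroup.mem_centralizer_singleton_iff]
        exact fun h => hxy h.symm
      have h8 : (Subgroup.center Y).relIndex (Subgroup.centralizer {x}) * (Subgroup.centralizer ({x} : Set Y)).index =
          (Subgroup.center Y).index := Subgroup.relIndex_mul_index h5
      have h9 : (Subgroup.centralizer ({x} : Set Y)).index ≠ 1 := by
        intro h9
        rw [Subgroup.index_eq_one] at h9
        exact h7 (by rw [h9]; exact Subgroup.mem_top _)
      have h10 : (Subgroup.center Y).relIndex (Subgroup.centralizer {x}) ≠ 1 := by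
        intro h10
        rw [Subgroup.relIndex_eq_one] at h10
        have h11 := Subgroup.mem_center_iff.1 (h10 h6) y
        exact hxy h11.symm
      have h12 : 0 < (Subgroup.centralizer ({x} : Set Y)).index :=
        Nat.pos_of_ne_zero Subgroup.index_ne_zero_of_finite
      have h13 : 0 < (Subgroup.center Y).index :=
        Nat.pos_of_ne_zero Subgroup.index_ne_zero_of_finite
      have h14 : (Subgroup.center Y).relIndex (Subgroup.centralizer {x}) ≠ 0 := by
        intro h14
        rw [h14, zero_mul] at h8
        omega
      have h15 : 2 ≤ (Subgroup.center Y).relIndex (Subgroup.centralizer {x}) := by omega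
      have h16 : 2 ≤ (Subgroup.centralizer ({x} : Set Y)).index := by omega
      nlinarith
    -- counting
    have hcount : Nat.card (ConjClasses Y) * Nat.card Y = ∑ x : Y, cent x (⊤ : Subgroup Y) :=
      card_conjClasses_mul_card
    have hb : ∀ x : Y, cent x (⊤ : Subgroup Y) ≤ 4 + (if x ∈ Subgroup.center Y then 4 else 0) := by
      intro x
      by_cases hx : x ∈ Subgroup.center Y
      · rw [if_pos hx, cent_top]
        exact (Subgroup.card_le_card_group _).trans (by rw [h1])
      · rw [if_neg hx, cent_top]
        have h2 := (Subgroup.centralizer ({x} : Set Y)).card_mul_index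
        have h3 : (Subgroup.centralizer ({x} : Set Y)).index ≠ 1 := by
          intro h9
          rw [Subgroup.index_eq_one] at h9
          apply hx
          rw [Subgroup.mem_center_iff]
          intro g
          have : g ∈ Subgroup.centralizer ({x} : Set Y) := by rw [h9]; exact Subgroup.mem_top _
          exact Subgroup.mem_centralizer_singleton_iff.1 this
        have h12 : 0 < (Subgroup.centralizer ({x} : Set Y)).index :=
          Nat.pos_of_ne_zero Subgroup.index_ne_zero_of_finite
        have h4 : 2 ≤ (Subgroup.centralizer ({x} : Set Y)).index := by omega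
        nlinarith
    have hs : ∑ x : Y, cent x (⊤ : Subgroup Y) ≤ ∑ x : Y, (4 + (if x ∈ Subgroup.center Y then 4 else 0)) :=
      Finset.sum_le_sum fun x _ => hb x
    rw [Finset.sum_add_distrib, Finset.sum_const, ← Finset.sum_filter, Finset.sum_const, Finset.card_univ,
      ← Nat.card_eq_fintype_card, h1, ← Fintype.card_subtype, ← Nat.card_eq_fintype_card] at hs
    have hZ' : Nat.card {x // x ∈ Subgroup.center Y} ≤ 2 := hZ
    rw [h1] at hcount
    simp only [smul_eq_mul] at hs
    omega

/-- a central subgroup of order 2 with commutative quotient of order 8 -/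
theorem nine_le {X Y : Type*} [Group X] [Group Y] [Finite X] (π : X →* Y)
    (hπ : Function.Surjective π) (hc : ∀ z ∈ π.ker, ∀ x, z * x = x * z) (h2 : Nat.card π.ker = 2)
    (h8 : Nat.card Y = 8) (hY : ∀ x y : Y, x * y = y * x) : 9 ≤ Nat.card (ConjClasses X) := by
  classical
  have := Fintype.ofFinite X
  have hX : Nat.card X = 16 := by
    have h3 := π.ker.card_mul_index
    rw [Subgroup.index_ker, MonoidHom.range_eq_top.2 hπ, Subgroup.card_top, h2, h8] at h3
    exact h3.symm
  have hcount : Nat.card (ConjClasses X) * Nat.card X = ∑ x : X, cent x (⊤ : Subgroup X) :=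
    card_conjClasses_mul_card
  -- every centralizer has order at least 8
  have hb : ∀ x : X, 8 + (if x ∈ π.ker then 8 else 0) ≤ cent x (⊤ : Subgroup X) := by
    intro x
    rw [cent_top]
    by_cases hx : x ∈ π.ker
    · rw [if_pos hx]
      have : Subgroup.centralizer ({x} : Set X) = ⊤ := by
        rw [eq_top_iff]
        intro y _
        rw [Subgroup.mem_centralizer_singleton_iff]
        exact (hc x hx y).symm
      rw [this, Subgroup.card_top, hX]
    · rw [if_neg hx, add_zero]
      have h3 : (Subgroup.centralizer ({x} : Set X)).index ≤ 2 := by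
        rw [← h2]
        -- cosets inject into the kernel by commutators
        have hm : ∀ y : X, y * x * y⁻¹ * x⁻¹ ∈ π.ker := by
          intro y
          rw [MonoidHom.mem_ker, map_mul, map_mul, map_mul, map_inv, map_inv, hY (π y) (π x)]
          group
        let F : X ⧸ Subgroup.centralizer ({x} : Set X) → π.ker := fun q =>
          Quotient.liftOn' q (fun y => (⟨y * x * y⁻¹ * x⁻¹, hm y⟩ : π.ker)) (by
            intro y y' hyy
            rw [QuotientGroup.leftRel_apply, Subgroup.mem_centralizer_singleton_iff] at hyy
            apply Subtype.ext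
            show y * x * y⁻¹ * x⁻¹ = y' * x * y'⁻¹ * x⁻¹
            have h4 : y' * x * y'⁻¹ = y * x * y⁻¹ := by
              calc y' * x * y'⁻¹ = y * (y⁻¹ * y' * x) * y'⁻¹ := by group
                _ = y * (x * (y⁻¹ * y')) * y'⁻¹ := by rw [hyy]
                _ = _ := by group
            rw [h4])
        have hF : Function.Injective F := by
          intro a b
          refine Quotient.inductionOn₂' a b ?_
          intro y y' h
          have h4 : y * x * y⁻¹ * x⁻¹ = y' * x * y'⁻¹ * x⁻¹ := congrArg Subtype.val h
          have h5 := mul_right_cancel h4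
          apply Quotient.sound'
          rw [QuotientGroup.leftRel_apply, Subgroup.mem_centralizer_singleton_iff]
          calc y⁻¹ * y' * x = y⁻¹ * (y' * x * y'⁻¹) * y' := by group
            _ = y⁻¹ * (y * x * y⁻¹) * y' := by rw [h5]
            _ = _ := by group
        exact Nat.card_le_card_of_injective F hF
      have h4 := (Subgroup.centralizer ({x} : Set X)).card_mul_index
      rw [hX] at h4
      nlinarith
  have hs : ∑ x : X, (8 + (if x ∈ π.ker then 8 else 0)) ≤ ∑ x : X, cent x (⊤ : Subgroup X) :=
    Finset.sum_le_sum fun x _ => hb x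
  rw [Finset.sum_add_distrib, Finset.sum_const, ← Finset.sum_filter, Finset.sum_const, Finset.card_univ,
    ← Nat.card_eq_fintype_card, hX, ← Fintype.card_subtype, ← Nat.card_eq_fintype_card] at hs
  have hZ' : Nat.card {x // x ∈ π.ker} = 2 := h2
  rw [hX] at hcount
  rw [hZ'] at hs
  simp only [smul_eq_mul] at hs
  omega

end Cfsg.Agent.H849.KGV
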