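import Mathlib
import Cfsg.Agent.H540.ClassNum

/-!
# Class numbers of central extensions of subgroups of `S₄` (for task 2297 of helper960)

`Quad A r z` : `A` is central in `G`, the cosets `A, r 0 A, r 1 A, r 2 A` form a normal subgroup `N`, distinct `r i`
do not commute (commutator `z`), and `G / N` acts faithfully on the three cosets.
* `quad_le` : `k(X) ≤ 4 |X ∩ A|` for every subgroup `X` of `G`.
-/

set_option autoImplicit false

namespace Cfsg.Agent.H849.KGV

open Cfsg.Agent.H540.ClassNum Equiv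

/-- the configuration -/
structure Quad {G : Type*} [Group G] (A : Subgroup G) (r : Fin 3 → G) (z : G) : Prop where
  /-- `A` is central -/
  cen : ∀ a ∈ A, ∀ g, a * g = g * a
  /-- the representatives -/
  dist : ∀ i j, (r i)⁻¹ * r j ∈ A → i = j
  /-- the commutators -/
  comm : ∀ i j, i ≠ j → r i * r j = z * (r j * r i)
  /-- not trivial -/
  z_ne : z ≠ 1
  /-- in `A` -/
  z_mem : z ∈ A
  /-- the action -/
  stab : ∀ g i, ∃ j, (r j)⁻¹ * (g * r i * g⁻¹) ∈ A
  /-- faithful -/
  ker : ∀ g, (∀ i, (r i)⁻¹ * (g * r i * g⁻¹) ∈ A) → g ∈ A ∨ ∃ i, (r i)⁻¹ * g ∈ A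

namespace Quad

variable {G : Type*} [Group G] {A : Subgroup G} {r : Fin 3 → G} {z : G}

theorem uniq (hq : Quad A r z) {n : G} {i j : Fin 3} (hi : (r i)⁻¹ * n ∈ A) (hj : (r j)⁻¹ * n ∈ A) :
    i = j := by
  apply hq.dist
  have h1 : (r i)⁻¹ * r j = ((r i)⁻¹ * n) * ((r j)⁻¹ * n)⁻¹ := by group
  rw [h1]
  exact A.mul_mem hi (A.inv_mem hj)

/-- the image of a representative -/
noncomputable def sg (hq : Quad A r z) (g : G) (i : Fin 3) : Fin 3 := (hq.stab g i).choose

theorem sg_spec (hq : Quad A r z) (g : G) (i : Fin 3) : (r (hq.sg g i))⁻¹ * (g * r i * g⁻¹) ∈ A :=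
  (hq.stab g i).choose_spec

theorem sg_eq (hq : Quad A r z) {g : G} {i j : Fin 3} (h : (r j)⁻¹ * (g * r i * g⁻¹) ∈ A) : hq.sg g i = j :=
  hq.uniq (hq.sg_spec g i) h

theorem sg_mul (hq : Quad A r z) (g h : G) (i : Fin 3) : hq.sg (g * h) i = hq.sg g (hq.sg h i) := by
  apply hq.sg_eq
  have h1 := hq.sg_spec h i
  have h2 := hq.sg_spec g (hq.sg h i)
  set j := hq.sg h i
  set k := hq.sg g j
  have h3 : (r k)⁻¹ * (g * h * r i * (g * h)⁻¹) =
      ((r k)⁻¹ * (g * r j * g⁻¹)) * (g * ((r j)⁻¹ * (h * r i * h⁻¹)) * g⁻¹) := by group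
  have h4 : g * ((r j)⁻¹ * (h * r i * h⁻¹)) * g⁻¹ = (r j)⁻¹ * (h * r i * h⁻¹) := by
    rw [← hq.cen _ h1 g]; group
  rw [h3, h4]
  exact A.mul_mem h2 h1

theorem sg_one (hq : Quad A r z) (i : Fin 3) : hq.sg 1 i = i := by
  apply hq.sg_eq
  have : (r i)⁻¹ * (1 * r i * 1⁻¹) = 1 := by group
  rw [this]
  exact A.one_mem

/-- the action on the three cosets -/
noncomputable def act (hq : Quad A r z) : G →* Perm (Fin 3) where
  toFun g :=
    { toFun := hq.sg g
      invFun := hq.sg g⁻¹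
      left_inv := fun i => by rw [← hq.sg_mul, inv_mul_cancel, hq.sg_one]
      right_inv := fun i => by rw [← hq.sg_mul, mul_inv_cancel, hq.sg_one] }
  map_one' := by
    ext i
    show (hq.sg 1 i : ℕ) = i
    rw [hq.sg_one]
  map_mul' g h := by
    ext i
    show (hq.sg (g * h) i : ℕ) = hq.sg g (hq.sg h i)
    rw [hq.sg_mul]

theorem act_apply (hq : Quad A r z) (g : G) (i : Fin 3) : hq.act g i = hq.sg g i := rfl

theorem mem_of_act_one (hq : Quad A r z) {g : G} (h : hq.act g = 1) : g ∈ A ∨ ∃ i, (r i)⁻¹ * g ∈ A := by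
  apply hq.ker
  intro i
  have h1 := hq.sg_spec g i
  have h2 : hq.sg g i = i := by
    rw [← act_apply, h]; rfl
  rwa [h2] at h1

/-- elements commuting with a member of a coset fix the coset -/
theorem fix_of_comm (hq : Quad A r z) {g y : G} {i : Fin 3} (hy : (r i)⁻¹ * y ∈ A) (h : g * y = y * g) :
    hq.act g i = i := by
  rw [act_apply]
  apply hq.sg_eq
  -- `r i = y a⁻¹`
  have h1 : g * r i * g⁻¹ = r i := by
    have h2 : r i = y * ((r i)⁻¹ * y)⁻¹ := by group
    have h3 := hq.cen _ (A.inv_mem hy) g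
    calc g * r i * g⁻¹ = g * (y * ((r i)⁻¹ * y)⁻¹) * g⁻¹ := by rw [← h2]
      _ = (g * y) * (((r i)⁻¹ * y)⁻¹ * g⁻¹) := by group
      _ = (y * g) * (((r i)⁻¹ * y)⁻¹ * g⁻¹) := by rw [h]
      _ = y * (g * ((r i)⁻¹ * y)⁻¹) * g⁻¹ := by group
      _ = y * (((r i)⁻¹ * y)⁻¹ * g) * g⁻¹ := by rw [h3]
      _ = y * ((r i)⁻¹ * y)⁻¹ := by group
      _ = r i := h2.symm
  rw [h1, inv_mul_cancel]
  exact A.one_mem

/-- members of different cosets do not commute -/
theorem not_comm (hq : Quad A r z) {y y' : G} {i j : Fin 3} (hij : i ≠ j) (hy : (r i)⁻¹ * y ∈ A)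
    (hy' : (r j)⁻¹ * y' ∈ A) : y * y' ≠ y' * y := by
  intro h
  have h1 := hq.comm i j hij
  -- write `y = r i a`, `y' = r j b`
  obtain ⟨a, ha, rfl⟩ : ∃ a ∈ A, r i * a = y := ⟨_, hy, by group⟩
  obtain ⟨b, hb, rfl⟩ : ∃ b ∈ A, r j * b = y' := ⟨_, hy', by group⟩
  have e1 : r i * a * (r j * b) = (r i * r j) * (a * b) := by
    calc r i * a * (r j * b) = r i * (a * r j) * b := by group
      _ = r i * (r j * a) * b := by rw [hq.cen a ha]
      _ = _ := by group
  have e2 : r j * b * (r i * a) = (r j * r i) * (a * b) := by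
    calc r j * b * (r i * a) = r j * (b * r i) * a := by group
      _ = r j * (r i * b) * a := by rw [hq.cen b hb]
      _ = (r j * r i) * (b * a) := by group
      _ = (r j * r i) * (a * b) := by rw [hq.cen b hb]
  rw [e1, e2] at h
  have h2 := mul_right_cancel h
  rw [h2] at h1
  apply hq.z_ne
  have h3 : z * (r j * r i) = 1 * (r j * r i) := by rw [one_mul]; exact h1.symm
  exact mul_right_cancel h3

end Quad

/-! ### counting -/

section count

variable {X : Type*} [Group X] [Fintype X] (ρ : X →* Perm (Fin 3))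

open scoped Classical in
/-- the number of commuting pairs with given images -/
noncomputable def TT (α β : Perm (Fin 3)) : ℕ :=
  ((Finset.univ : Finset (X × X)).filter fun q => q.1 * q.2 = q.2 * q.1 ∧ ρ q.1 = α ∧ ρ q.2 = β).card

open scoped Classical in
/-- the size of a fibre -/
noncomputable def FF (α : Perm (Fin 3)) : ℕ :=
  ((Finset.univ : Finset X).filter fun x => ρ x = α).card

theorem TT_swap (α β : Perm (Fin 3)) : TT ρ α β = TT ρ β α := by
  classical
  apply Finset.card_bij (fun q _ => (q.2, q.1))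
  · intro q hq
    rw [Finset.mem_filter] at hq ⊢
    exact ⟨Finset.mem_univ _, hq.2.1.symm, hq.2.2.2, hq.2.2.1⟩
  · rintro ⟨x, y⟩ _ ⟨x', y'⟩ _ h
    have h1 : y = y' := congrArg Prod.fst h
    have h2 : x = x' := congrArg Prod.snd h
    rw [h1, h2]
  · rintro ⟨x, y⟩ hq
    rw [Finset.mem_filter] at hq
    refine ⟨(y, x), ?_, rfl⟩
    rw [Finset.mem_filter]
    exact ⟨Finset.mem_univ _, hq.2.1.symm, hq.2.2.2, hq.2.2.1⟩

theorem TT_mul (α β : Perm (Fin 3)) : TT ρ α β = TT ρ α (α * β) := by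
  classical
  apply Finset.card_bij (fun q _ => (q.1, q.1 * q.2))
  · intro q hq
    rw [Finset.mem_filter] at hq ⊢
    refine ⟨Finset.mem_univ _, ?_, hq.2.2.1, ?_⟩
    · show q.1 * (q.1 * q.2) = (q.1 * q.2) * q.1
      rw [mul_assoc, hq.2.1]
    · show ρ (q.1 * q.2) = α * β
      rw [map_mul, hq.2.2.1, hq.2.2.2]
  · rintro ⟨x, y⟩ _ ⟨x', y'⟩ _ h
    have h1 : x = x' := congrArg Prod.fst h
    have h2 : x * y = x' * y' := congrArg Prod.snd h
    rw [h1] at h2
    rw [h1, mul_left_cancel h2]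
  · rintro ⟨x, y⟩ hq
    rw [Finset.mem_filter] at hq
    obtain ⟨-, h1, h2, h3⟩ := hq
    have h1' : x * y = y * x := h1
    refine ⟨(x, x⁻¹ * y), ?_, ?_⟩
    · rw [Finset.mem_filter]
      refine ⟨Finset.mem_univ _, ?_, h2, ?_⟩
      · show x * (x⁻¹ * y) = (x⁻¹ * y) * x
        rw [mul_assoc, ← h1']; group
      · show ρ (x⁻¹ * y) = β
        have h2' : ρ x = α := h2
        have h3' : ρ y = α * β := h3
        rw [map_mul, map_inv, h2', h3']; group
    · show (x, x * (x⁻¹ * y)) = (x, y)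
      rw [mul_inv_cancel_left]

theorem TT_zero {α β : Perm (Fin 3)} (h : α * β ≠ β * α) : TT ρ α β = 0 := by
  classical
  unfold TT
  rw [Finset.card_eq_zero, Finset.filter_eq_empty_iff]
  rintro ⟨x, y⟩ - ⟨h1, h2, h3⟩
  apply h
  have h1' : x * y = y * x := h1
  have h2' : ρ x = α := h2
  have h3' : ρ y = β := h3
  rw [← h2', ← h3', ← map_mul, ← map_mul, h1']

theorem comm3 : ∀ α β : Perm (Fin 3), α ≠ 1 → α * β = β * α → β = 1 ∨ β = α ∨ β = α⁻¹ := by decide

theorem sum_TT {α : Perm (Fin 3)} (h : α ≠ 1) :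
    ∑ β, TT ρ α β = ({1, α, α⁻¹} : Finset (Perm (Fin 3))).card * TT ρ α 1 := by
  classical
  rw [← Finset.sum_subset (Finset.subset_univ ({1, α, α⁻¹} : Finset (Perm (Fin 3))))]
  · rw [Finset.card_eq_sum_ones, Finset.sum_mul]
    refine Finset.sum_congr rfl ?_
    intro β hβ
    rw [one_mul]
    simp only [Finset.mem_insert, Finset.mem_singleton] at hβ
    rcases hβ with rfl | rfl | rfl
    · rfl
    · rw [TT_mul ρ β 1, mul_one]
    · rw [TT_mul ρ α α⁻¹, mul_inv_cancel]
  · intro β _ hβ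
    apply TT_zero
    intro hc
    apply hβ
    simp only [Finset.mem_insert, Finset.mem_singleton]
    exact comm3 α β h hc

/-- all commuting pairs -/
theorem total : Nat.card (ConjClasses X) * Nat.card X =
    ∑ α : Perm (Fin 3), (if α = 1 then 1 else 1 + ({1, α, α⁻¹} : Finset (Perm (Fin 3))).card) * TT ρ α 1 := by
  classical
  have h1 : Nat.card (ConjClasses X) * Nat.card X = ∑ α, ∑ β, TT ρ α β := by
    rw [← card_comm_eq_card_conjClasses_mul_card, Nat.card_eq_fintype_card, Fintype.card_subtype,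
      ← Fintype.sum_prod_type']
    rw [Finset.card_eq_sum_card_fiberwise (f := fun q : X × X => (ρ q.1, ρ q.2))
      (t := (Finset.univ : Finset (Perm (Fin 3) × Perm (Fin 3)))) (fun _ _ => Finset.mem_univ _)]
    refine Finset.sum_congr rfl ?_
    rintro ⟨α, β⟩ -
    unfold TT
    rw [Finset.filter_filter]
    congr 1
    apply Finset.filter_congr
    rintro ⟨x, y⟩ -
    rw [Prod.mk.injEq]
    rfl
  rw [h1]
  have h2 : ∑ α, ∑ β, TT ρ α β = ∑ β, TT ρ 1 β +
      ∑ α ∈ Finset.univ.filter (fun α : Perm (Fin 3) => α ≠ 1), ∑ β, TT ρ α β := by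
    rw [← Finset.sum_filter_add_sum_filter_not Finset.univ (fun α : Perm (Fin 3) => α = 1)
      (fun α => ∑ β, TT ρ α β)]
    congr 1
    rw [Finset.filter_eq' Finset.univ (1 : Perm (Fin 3)), if_pos (Finset.mem_univ _), Finset.sum_singleton]
  have h3 : ∑ α ∈ Finset.univ.filter (fun α : Perm (Fin 3) => α ≠ 1), ∑ β, TT ρ α β =
      ∑ α ∈ Finset.univ.filter (fun α : Perm (Fin 3) => α ≠ 1),
        ({1, α, α⁻¹} : Finset (Perm (Fin 3))).card * TT ρ α 1 := by
    refine Finset.sum_congr rfl ?_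
    intro α hα
    exact sum_TT ρ (Finset.mem_filter.1 hα).2
  have h4 : ∑ β, TT ρ 1 β = ∑ β, TT ρ β 1 := Finset.sum_congr rfl fun β _ => TT_swap ρ 1 β
  rw [h2, h3, h4, Finset.sum_filter, ← Finset.sum_add_distrib]
  refine Finset.sum_congr rfl ?_
  intro α _
  by_cases hα : α = 1
  · rw [if_pos hα, if_neg (not_not.2 hα)]; ring
  · rw [if_neg hα, if_pos hα]; ring

theorem sum_FF : ∑ α, FF ρ α = Nat.card X := by
  classical
  rw [Nat.card_eq_fintype_card, ← Finset.card_univ,
    Finset.card_eq_sum_card_fiberwise (f := fun x : X => ρ x)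
      (t := (Finset.univ : Finset (Perm (Fin 3)))) (fun _ _ => Finset.mem_univ _)]
  rfl

theorem FF_le (α : Perm (Fin 3)) : FF ρ α ≤ FF ρ 1 := by
  classical
  unfold FF
  rcases (Finset.univ.filter fun x : X => ρ x = α).eq_empty_or_nonempty with h | ⟨x₀, hx₀⟩
  · rw [h, Finset.card_empty]; exact Nat.zero_le _
  · apply Finset.card_le_card_of_injOn (fun x => x₀⁻¹ * x)
    · intro x hx
      rw [Finset.mem_coe, Finset.mem_filter] at hx ⊢
      refine ⟨Finset.mem_univ _, ?_⟩
      rw [map_mul, map_inv, hx.2, (Finset.mem_filter.1 hx₀).2, inv_mul_cancel]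
    · intro a _ b _ h
      exact mul_left_cancel h

open scoped Classical in
/-- the number of elements of a fibre commuting with `y` -/
noncomputable def cc (α : Perm (Fin 3)) (y : X) : ℕ :=
  ((Finset.univ : Finset X).filter fun x => x * y = y * x ∧ ρ x = α).card

open scoped Classical in
theorem TT_one (α : Perm (Fin 3)) : TT ρ α 1 = ∑ y ∈ Finset.univ.filter (fun y : X => ρ y = 1), cc ρ α y := by
  unfold TT
  rw [Finset.card_eq_sum_card_fiberwise (f := fun q : X × X => q.2)
      (t := Finset.univ.filter (fun y : X => ρ y = 1))]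
  · refine Finset.sum_congr rfl ?_
    intro y hy
    unfold cc
    apply Finset.card_bij (fun q _ => q.1)
    · rintro ⟨x, y'⟩ hq
      rw [Finset.mem_filter, Finset.mem_filter] at hq
      obtain ⟨⟨-, h1, h2, h3⟩, h4⟩ := hq
      have h4' : y' = y := h4
      rw [Finset.mem_filter]
      refine ⟨Finset.mem_univ _, ?_, h2⟩
      rw [← h4']; exact h1
    · rintro ⟨x, y'⟩ hq ⟨x', y''⟩ hq' h
      rw [Finset.mem_filter] at hq hq'
      have h1 : y' = y := hq.2
      have h2 : y'' = y := hq'.2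
      have h3 : x = x' := h
      rw [h1, h2, h3]
    · intro x hx
      rw [Finset.mem_filter] at hx
      refine ⟨(x, y), ?_, rfl⟩
      rw [Finset.mem_filter, Finset.mem_filter]
      exact ⟨⟨Finset.mem_univ _, hx.2.1, hx.2.2, (Finset.mem_filter.1 hy).2⟩, rfl⟩
  · intro q hq
    rw [Finset.mem_coe, Finset.mem_filter] at hq ⊢
    exact ⟨Finset.mem_univ _, hq.2.2.2⟩

theorem cc_le (α : Perm (Fin 3)) (y : X) : cc ρ α y ≤ FF ρ α := by
  classical
  unfold cc FF
  apply Finset.card_le_card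
  intro x hx
  rw [Finset.mem_filter] at hx ⊢
  exact ⟨hx.1, hx.2.2⟩

theorem cc_half (α : Perm (Fin 3)) {y y' : X} (hy' : ρ y' = 1) (h : y * y' ≠ y' * y) :
    2 * cc ρ α y ≤ FF ρ α := by
  classical
  unfold cc FF
  set E := (Finset.univ : Finset X).filter fun x => x * y = y * x ∧ ρ x = α with hE
  have h1 : Disjoint E (E.image (fun x => x * y')) := by
    rw [Finset.disjoint_left]
    intro x hx hx'
    rw [Finset.mem_image] at hx'
    obtain ⟨u, hu, hux⟩ := hx'
    have h2 : x * y = y * x := (Finset.mem_filter.1 hx).2.1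
    have h3 : u * y = y * u := (Finset.mem_filter.1 hu).2.1
    have hux' : u * y' = x := hux
    apply h
    rw [← hux'] at h2
    -- u y' y = y u y' = u y y'
    have h4 : u * (y' * y) = u * (y * y') := by
      calc u * (y' * y) = u * y' * y := by group
        _ = y * (u * y') := h2
        _ = (y * u) * y' := by group
        _ = (u * y) * y' := by rw [h3]
        _ = _ := by group
    exact (mul_left_cancel h4).symm
  have h2 : (E.image (fun x => x * y')).card = E.card :=
    Finset.card_image_of_injective _ (fun a b h => mul_right_cancel h)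
  have h3 : E ∪ E.image (fun x => x * y') ⊆ Finset.univ.filter fun x : X => ρ x = α := by
    intro x hx
    rw [Finset.mem_union, Finset.mem_image] at hx
    rw [Finset.mem_filter]
    refine ⟨Finset.mem_univ _, ?_⟩
    rcases hx with hx | ⟨u, hu, rfl⟩
    · exact (Finset.mem_filter.1 hx).2.2
    · rw [map_mul, hy', mul_one]
      exact (Finset.mem_filter.1 hu).2.2
  have h4 := Finset.card_le_card h3
  rw [Finset.card_union_of_disjoint h1, h2] at h4
  omega

end count

end Cfsg.Agent.H849.KGV
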