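import Cfsg.Agent.H849.KGV.QuadA

/-!
# `k(X) ≤ 4 |X ∩ A|` (for task 2297 of helper960)
-/

set_option autoImplicit false

namespace Cfsg.Agent.H849.KGV

open Cfsg.Agent.H540.ClassNum Equiv

/-- the weights -/
def uu (α : Perm (Fin 3)) : ℕ := if α = 1 then 1 else 1 + ({1, α, α⁻¹} : Finset (Perm (Fin 3))).card

/-- the number of fixed points -/
def fx (α : Perm (Fin 3)) : ℕ := ∑ i, if α i = i then 1 else 0

theorem uu_le : ∀ α, uu α ≤ 4 := by decide

theorem wt_le : ∀ α, uu α * (2 + fx α) + (if α = 1 then 3 else 0) ≤ 8 + (if α * α = 1 ∧ α ≠ 1 then 1 else 0) := by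
  decide

theorem card_inv3 : (Finset.univ.filter fun α : Perm (Fin 3) => α * α = 1 ∧ α ≠ 1).card = 3 := by decide

theorem card_fix3 : ∀ i : Fin 3, (Finset.univ.filter fun α : Perm (Fin 3) => α i = i).card = 2 := by decide

theorem num_a (F : Perm (Fin 3) → ℕ) (hF : ∀ α, F α ≤ F 1) :
    ∑ α, uu α * ((2 + fx α) * F α) ≤ 8 * ∑ α, F α := by
  have h1 : ∑ α, uu α * ((2 + fx α) * F α) + 3 * F 1 =
      ∑ α, (uu α * (2 + fx α) + (if α = 1 then 3 else 0)) * F α := by
    have h2 : 3 * F 1 = ∑ α, (if α = (1 : Perm (Fin 3)) then 3 else 0) * F α := by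
      rw [Finset.sum_eq_single (1 : Perm (Fin 3))]
      · rw [if_pos rfl]
      · intro β _ hβ
        rw [if_neg hβ, zero_mul]
      · intro h
        exact absurd (Finset.mem_univ _) h
    rw [h2, ← Finset.sum_add_distrib]
    refine Finset.sum_congr rfl fun α _ => ?_
    ring
  have h2 : ∑ α, (uu α * (2 + fx α) + (if α = 1 then 3 else 0)) * F α ≤
      ∑ α, (8 + (if α * α = 1 ∧ α ≠ 1 then 1 else 0)) * F α :=
    Finset.sum_le_sum fun α _ => Nat.mul_le_mul_right _ (wt_le α)
  have h3 : ∑ α : Perm (Fin 3), (8 + (if α * α = 1 ∧ α ≠ 1 then 1 else 0)) * F α =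
      8 * ∑ α, F α + ∑ α ∈ Finset.univ.filter (fun α : Perm (Fin 3) => α * α = 1 ∧ α ≠ 1), F α := by
    rw [Finset.mul_sum, Finset.sum_filter, ← Finset.sum_add_distrib]
    refine Finset.sum_congr rfl fun α _ => ?_
    by_cases h : α * α = 1 ∧ α ≠ 1
    · rw [if_pos h, if_pos h]; ring
    · rw [if_neg h, if_neg h]; ring
  have h4 : ∑ α ∈ Finset.univ.filter (fun α : Perm (Fin 3) => α * α = 1 ∧ α ≠ 1), F α ≤ 3 * F 1 := by
    calc ∑ α ∈ Finset.univ.filter (fun α : Perm (Fin 3) => α * α = 1 ∧ α ≠ 1), F α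
        ≤ ∑ α ∈ Finset.univ.filter (fun α : Perm (Fin 3) => α * α = 1 ∧ α ≠ 1), F 1 :=
          Finset.sum_le_sum fun α _ => hF α
      _ = 3 * F 1 := by rw [Finset.sum_const, card_inv3, smul_eq_mul]
  omega

variable {G : Type*} [Group G] {A : Subgroup G} {r : Fin 3 → G} {z : G}

/-- **class numbers of subgroups** -/
theorem quad_le (hq : Quad A r z) {X : Type*} [Group X] [Finite X] (φ : X →* G) :
    Nat.card (ConjClasses X) ≤ 4 * Nat.card (A.comap φ) := by
  classical
  have := Fintype.ofFinite X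
  obtain ⟨ρ, hρ⟩ : ∃ ρ : X →* Perm (Fin 3), ρ = hq.act.comp φ := ⟨_, rfl⟩
  have hρ' : ∀ x, ρ x = hq.act (φ x) := fun x => by rw [hρ]; rfl
  let Zf : Finset X := Finset.univ.filter fun x => φ x ∈ A
  let S : Fin 3 → Finset X := fun i => Finset.univ.filter fun x => (r i)⁻¹ * φ x ∈ A
  have hZf : ∀ x, x ∈ Zf ↔ φ x ∈ A := fun x => by
    show x ∈ Finset.univ.filter (fun x => φ x ∈ A) ↔ _
    rw [Finset.mem_filter]; exact ⟨fun h => h.2, fun h => ⟨Finset.mem_univ _, h⟩⟩
  have hS : ∀ i x, x ∈ S i ↔ (r i)⁻¹ * φ x ∈ A := fun i x => by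
    show x ∈ Finset.univ.filter (fun x => (r i)⁻¹ * φ x ∈ A) ↔ _
    rw [Finset.mem_filter]; exact ⟨fun h => h.2, fun h => ⟨Finset.mem_univ _, h⟩⟩
  have ha : Nat.card (A.comap φ) = Zf.card := by
    rw [Nat.card_eq_fintype_card, Fintype.card_of_subtype Zf]
    intro x
    rw [hZf, Subgroup.mem_comap]
  rw [ha]
  have hSc : ∀ i, (S i).card ≤ Zf.card := by
    intro i
    rcases (S i).eq_empty_or_nonempty with h | ⟨x₀, hx₀⟩
    · rw [h, Finset.card_empty]; exact Nat.zero_le _
    · apply Finset.card_le_card_of_injOn (fun x => x₀⁻¹ * x)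
      · intro x hx
        rw [Finset.mem_coe] at hx ⊢
        rw [hS] at hx hx₀
        rw [hZf, map_mul, map_inv]
        have : (φ x₀)⁻¹ * φ x = ((r i)⁻¹ * φ x₀)⁻¹ * ((r i)⁻¹ * φ x) := by group
        rw [this]
        exact A.mul_mem (A.inv_mem hx₀) hx
      · intro a _ b _ h
        exact mul_left_cancel h
  -- the kernel
  have hK : ∀ y, ρ y = 1 → y ∈ Zf ∨ ∃ i, y ∈ S i := by
    intro y hy
    rw [hρ'] at hy
    rcases hq.mem_of_act_one hy with h | ⟨i, h⟩
    · exact Or.inl ((hZf y).2 h)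
    · exact Or.inr ⟨i, (hS i y).2 h⟩
  have hSk : ∀ i, ∀ y ∈ S i, ρ y = 1 := by
    intro i y hy
    rw [hS] at hy
    rw [hρ']
    -- members of `r i A` act trivially on all cosets
    ext k
    rw [Quad.act_apply]
    show ((hq.sg (φ y) k : Fin 3) : ℕ) = k
    congr 1
    apply hq.sg_eq
    obtain ⟨a, ha, hay⟩ : ∃ a ∈ A, r i * a = φ y := ⟨_, hy, by group⟩
    rw [← hay]
    have h1 : r i * a * r k * (r i * a)⁻¹ = r i * r k * (r i)⁻¹ := by
      calc r i * a * r k * (r i * a)⁻¹ = r i * (a * r k) * a⁻¹ * (r i)⁻¹ := by group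
        _ = r i * (r k * a) * a⁻¹ * (r i)⁻¹ := by rw [hq.cen a ha]
        _ = _ := by group
    rw [h1]
    by_cases hik : i = k
    · subst hik
      have : (r i)⁻¹ * (r i * r i * (r i)⁻¹) = 1 := by group
      rw [this]; exact A.one_mem
    · have h3 : (r k)⁻¹ * (r i * r k * (r i)⁻¹) = z := by
        calc (r k)⁻¹ * (r i * r k * (r i)⁻¹) = (r k)⁻¹ * ((r i * r k) * (r i)⁻¹) := by group
          _ = (r k)⁻¹ * ((z * (r k * r i)) * (r i)⁻¹) := by rw [← hq.comm i k hik]
          _ = (r k)⁻¹ * (z * r k) := by group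
          _ = (r k)⁻¹ * (r k * z) := by rw [hq.cen z hq.z_mem]
          _ = z := by group
      rw [h3]; exact hq.z_mem
  -- the bound for `TT α 1`
  have hT : ∀ α, TT ρ α 1 ≤ ∑ y ∈ Zf, cc ρ α y + ∑ i, ∑ y ∈ S i, cc ρ α y := by
    intro α
    rw [TT_one]
    calc ∑ y ∈ Finset.univ.filter (fun y : X => ρ y = 1), cc ρ α y
        ≤ ∑ y ∈ Finset.univ.filter (fun y : X => ρ y = 1),
          ((if y ∈ Zf then cc ρ α y else 0) + ∑ i, if y ∈ S i then cc ρ α y else 0) := by
          apply Finset.sum_le_sum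
          intro y hy
          rcases hK y (Finset.mem_filter.1 hy).2 with h | ⟨i, h⟩
          · rw [if_pos h]; exact Nat.le_add_right _ _
          · refine le_trans ?_ (Nat.le_add_left _ _)
            have h1 : (if y ∈ S i then cc ρ α y else 0) ≤ ∑ i, if y ∈ S i then cc ρ α y else 0 :=
              Finset.single_le_sum (f := fun i => if y ∈ S i then cc ρ α y else 0)
                (fun _ _ => Nat.zero_le _) (Finset.mem_univ i)
            rwa [if_pos h] at h1
      _ ≤ ∑ y : X, ((if y ∈ Zf then cc ρ α y else 0) + ∑ i, if y ∈ S i then cc ρ α y else 0) :=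
          Finset.sum_le_sum_of_subset (Finset.subset_univ _)
      _ = ∑ y ∈ Zf, cc ρ α y + ∑ i, ∑ y ∈ S i, cc ρ α y := by
          rw [Finset.sum_add_distrib, Finset.sum_comm]
          congr 1
          · rw [Finset.sum_ite_mem, Finset.univ_inter]
          · refine Finset.sum_congr rfl fun i _ => ?_
            rw [Finset.sum_ite_mem, Finset.univ_inter]
  have hZs : ∀ α, ∑ y ∈ Zf, cc ρ α y ≤ Zf.card * FF ρ α := by
    intro α
    calc ∑ y ∈ Zf, cc ρ α y ≤ ∑ _y ∈ Zf, FF ρ α := Finset.sum_le_sum fun y _ => cc_le ρ α y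
      _ = Zf.card * FF ρ α := by rw [Finset.sum_const, smul_eq_mul]
  -- elements commuting with members of `S i`
  have hcc0 : ∀ α i, ∀ y ∈ S i, α i ≠ i → cc ρ α y = 0 := by
    intro α i y hy hα
    unfold cc
    rw [Finset.card_eq_zero, Finset.filter_eq_empty_iff]
    rintro x - ⟨h1, h2⟩
    apply hα
    rw [← h2, hρ']
    apply hq.fix_of_comm ((hS i y).1 hy)
    rw [← map_mul, ← map_mul, h1]
  have hnc : ∀ i j, i ≠ j → ∀ y ∈ S i, ∀ y' ∈ S j, y * y' ≠ y' * y := by
    intro i j hij y hy y' hy' h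
    apply hq.not_comm hij ((hS i y).1 hy) ((hS j y').1 hy')
    rw [← map_mul, ← map_mul, h]
  have hXpos : 0 < Nat.card X := Nat.card_pos
  have htot := total ρ
  have htot' : Nat.card (ConjClasses X) * Nat.card X = ∑ α, uu α * TT ρ α 1 := htot
  refine Nat.le_of_mul_le_mul_right ?_ hXpos
  by_cases hcase : ∃ i j, i ≠ j ∧ (S i).Nonempty ∧ (S j).Nonempty
  · -- at least two cosets are met
    obtain ⟨i₀, j₀, hij₀, hi₀, hj₀⟩ := hcase
    have h1 : ∀ α, 2 * TT ρ α 1 ≤ Zf.card * ((2 + fx α) * FF ρ α) := by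
      intro α
      have h2 : ∀ i, 2 * ∑ y ∈ S i, cc ρ α y ≤ Zf.card * ((if α i = i then 1 else 0) * FF ρ α) := by
        intro i
        by_cases hα : α i = i
        · rw [if_pos hα, one_mul, Finset.mul_sum]
          calc ∑ y ∈ S i, 2 * cc ρ α y ≤ ∑ _y ∈ S i, FF ρ α := by
                apply Finset.sum_le_sum
                intro y hy
                by_cases h3 : i = i₀
                · obtain ⟨y', hy'⟩ := hj₀
                  exact cc_half ρ α (hSk _ _ hy') (hnc i j₀ (h3 ▸ hij₀) y hy y' hy')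
                · obtain ⟨y', hy'⟩ := hi₀
                  exact cc_half ρ α (hSk _ _ hy') (hnc i i₀ h3 y hy y' hy')
            _ = (S i).card * FF ρ α := by rw [Finset.sum_const, smul_eq_mul]
            _ ≤ Zf.card * FF ρ α := Nat.mul_le_mul_right _ (hSc i)
        · have h3 : ∑ y ∈ S i, cc ρ α y = 0 := Finset.sum_eq_zero fun y hy => hcc0 α i y hy hα
          rw [h3, mul_zero]
          exact Nat.zero_le _
      have h3 : ∑ i, 2 * ∑ y ∈ S i, cc ρ α y ≤ ∑ i, Zf.card * ((if α i = i then 1 else 0) * FF ρ α) :=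
        Finset.sum_le_sum fun i _ => h2 i
      rw [← Finset.mul_sum, ← Finset.mul_sum, ← Finset.sum_mul] at h3
      have h4 := hT α
      have h5 := hZs α
      have h6 : Zf.card * ((2 + fx α) * FF ρ α) =
          2 * (Zf.card * FF ρ α) + Zf.card * ((∑ i, if α i = i then 1 else 0) * FF ρ α) := by
        unfold fx; ring
      rw [h6]
      omega
    have h2 : 2 * (Nat.card (ConjClasses X) * Nat.card X) ≤ Zf.card * (8 * Nat.card X) := by
      rw [htot', ← sum_FF ρ, Finset.mul_sum]
      calc ∑ α, 2 * (uu α * TT ρ α 1) = ∑ α, uu α * (2 * TT ρ α 1) :=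
            Finset.sum_congr rfl fun α _ => by ring
        _ ≤ ∑ α, uu α * (Zf.card * ((2 + fx α) * FF ρ α)) :=
            Finset.sum_le_sum fun α _ => Nat.mul_le_mul_left _ (h1 α)
        _ = Zf.card * ∑ α, uu α * ((2 + fx α) * FF ρ α) := by
            rw [Finset.mul_sum]
            exact Finset.sum_congr rfl fun α _ => by ring
        _ ≤ Zf.card * (8 * ∑ α, FF ρ α) := Nat.mul_le_mul_left _ (num_a _ (FF_le ρ))
    nlinarith
  · by_cases hcase' : ∃ i, (S i).Nonempty
    · -- exactly one coset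
      obtain ⟨i, y₀, hy₀⟩ := hcase'
      have hothers : ∀ j, j ≠ i → S j = ∅ := by
        intro j hj
        by_contra hne
        exact hcase ⟨j, i, hj, Finset.nonempty_iff_ne_empty.2 hne, ⟨y₀, hy₀⟩⟩
      have hfix : ∀ x, ρ x i = i := by
        intro x
        by_contra hne
        have h1 : x * y₀ * x⁻¹ ∈ S (ρ x i) := by
          rw [hS, map_mul, map_mul, map_inv, hρ', Quad.act_apply]
          have h2 := hq.sg_spec (φ x) i
          have h3 := (hS i y₀).1 hy₀
          set k := hq.sg (φ x) i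
          have h4 : (r k)⁻¹ * (φ x * φ y₀ * (φ x)⁻¹) =
              ((r k)⁻¹ * (φ x * r i * (φ x)⁻¹)) * (φ x * ((r i)⁻¹ * φ y₀) * (φ x)⁻¹) := by group
          have h5 : φ x * ((r i)⁻¹ * φ y₀) * (φ x)⁻¹ = (r i)⁻¹ * φ y₀ := by
            rw [← hq.cen _ h3 (φ x)]; group
          rw [h4, h5]
          exact A.mul_mem h2 h3
        rw [hothers _ hne] at h1
        exact absurd h1 (Finset.notMem_empty _)
      have hF1 : FF ρ 1 ≤ 2 * Zf.card := by
        have h1 : (Finset.univ.filter fun x : X => ρ x = 1) ⊆ Zf ∪ S i := by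
          intro y hy
          rw [Finset.mem_union]
          rcases hK y (Finset.mem_filter.1 hy).2 with h | ⟨j, h⟩
          · exact Or.inl h
          · by_cases hj : j = i
            · subst hj; exact Or.inr h
            · rw [hothers j hj] at h
              exact absurd h (Finset.notMem_empty _)
        have h2 := (Finset.card_le_card h1).trans (Finset.card_union_le _ _)
        have h3 := hSc i
        have h4 : FF ρ 1 = (Finset.univ.filter fun x : X => ρ x = 1).card := rfl
        rw [h4]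
        omega
      have hX4 : Nat.card X ≤ 4 * Zf.card := by
        rw [← sum_FF ρ]
        have h1 : ∑ α, FF ρ α = ∑ α ∈ Finset.univ.filter (fun α : Perm (Fin 3) => α i = i), FF ρ α := by
          rw [Finset.sum_filter]
          refine Finset.sum_congr rfl fun α _ => ?_
          by_cases hα : α i = i
          · rw [if_pos hα]
          · rw [if_neg hα]
            unfold FF
            rw [Finset.card_eq_zero, Finset.filter_eq_empty_iff]
            rintro x - rfl
            exact hα (hfix x)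
        rw [h1]
        calc ∑ α ∈ Finset.univ.filter (fun α : Perm (Fin 3) => α i = i), FF ρ α
            ≤ ∑ α ∈ Finset.univ.filter (fun α : Perm (Fin 3) => α i = i), FF ρ 1 :=
              Finset.sum_le_sum fun α _ => FF_le ρ α
          _ = 2 * FF ρ 1 := by rw [Finset.sum_const, card_fix3, smul_eq_mul]
          _ ≤ 4 * Zf.card := by omega
      exact Nat.mul_le_mul_right _ (card_conjClasses_le_card.trans hX4)
    · -- no coset
      have h1 : ∀ α, TT ρ α 1 ≤ Zf.card * FF ρ α := by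
        intro α
        have h2 : ∑ i, ∑ y ∈ S i, cc ρ α y = 0 := by
          apply Finset.sum_eq_zero
          intro i _
          have h3 : S i = ∅ := by
            by_contra hne
            exact hcase' ⟨i, Finset.nonempty_iff_ne_empty.2 hne⟩
          rw [h3, Finset.sum_empty]
        have h4 := hT α
        rw [h2, add_zero] at h4
        exact h4.trans (hZs α)
      rw [htot', ← sum_FF ρ]
      calc ∑ α, uu α * TT ρ α 1 ≤ ∑ α, 4 * (Zf.card * FF ρ α) :=
            Finset.sum_le_sum fun α _ => Nat.mul_le_mul (uu_le α) (h1 α)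
        _ = 4 * Zf.card * ∑ α, FF ρ α := by
            rw [Finset.mul_sum]
            exact Finset.sum_congr rfl fun α _ => by ring

end Cfsg.Agent.H849.KGV
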