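import Cfsg.Agent.H849.KGV.QuadB

/-!
# Existence of the configuration `Quad` (for task 2297 of helper960)
-/

set_option autoImplicit false

namespace Cfsg.Agent.H849.KGV

open Equiv

section

variable {G : Type*} [Group G]

/-- existence of the configuration -/
theorem quad_exists [Finite G] (A N : Subgroup G) (hcen : ∀ a ∈ A, ∀ g, a * g = g * a)
    (hN : ∀ n ∈ N, ∀ g, g * n * g⁻¹ ∈ N) (h4 : A.relIndex N = 4)
    (hcent : ∀ g, (∀ n ∈ N, g * n = n * g) → g ∈ A)
    (hsq : ∀ a ∈ A, ∀ b ∈ A, a * a = 1 → b * b = 1 → a ≠ 1 → b ≠ 1 → a = b) :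
    ∃ (r : Fin 3 → G) (z : G), Quad A r z ∧ (∀ i, r i ∈ N) ∧ z * z = 1 ∧
      (∀ n ∈ N, n ∈ A ∨ ∃ i, (r i)⁻¹ * n ∈ A) ∧ (∀ i, r i ∉ A) := by
  classical
  -- two elements which do not commute
  obtain ⟨x, hx, y, hy, hxy⟩ : ∃ x ∈ N, ∃ y ∈ N, x * y ≠ y * x := by
    by_contra hcon
    push Not at hcon
    have h1 : N ≤ A := fun n hn => hcent n fun m hm => hcon n hn m hm
    rw [Subgroup.relIndex_eq_one.2 h1] at h4
    omega
  -- elements of `A` commute with everything
  have c : ∀ {a : G}, a ∈ A → ∀ g, a * g = g * a := fun ha g => hcen _ ha g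
  have n1 : x ∉ A := fun h => hxy (c h y)
  have n2 : y ∉ A := fun h => hxy (c h x).symm
  have n3 : x * y ∉ A := by
    intro h
    have h1 := c h x
    apply hxy
    have h2 : x * (y * x) = x * (x * y) := by rw [← mul_assoc, h1]
    exact (mul_left_cancel h2).symm
  have n4 : x⁻¹ * y ∉ A := by
    intro h
    have h1 := c h x
    apply hxy
    have h2 : x⁻¹ * (y * x) = y := by
      rw [← mul_assoc, h1]; group
    have h3 : y * x = x * y := by
      calc y * x = x * (x⁻¹ * (y * x)) := by group
        _ = x * y := by rw [h2]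
    exact h3.symm
  have n5 : y⁻¹ * (x * y) ∉ A := by
    intro h
    have h1 := c h y
    apply hxy
    have h2 : y⁻¹ * (x * y) * y = x * y := by rw [h1]; group
    have h3 : x * y * y = y * (x * y) := by
      calc x * y * y = y * (y⁻¹ * (x * y) * y) := by group
        _ = _ := by rw [h2]
    have h4 : x * y * y = y * x * y := by rw [h3]; group
    exact mul_right_cancel h4
  have n6 : y⁻¹ * x ∉ A := by
    intro h
    apply n4
    have h2 : x⁻¹ * y = (y⁻¹ * x)⁻¹ := by group
    rw [h2]
    exact A.inv_mem h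
  let w : Fin 4 → G := ![1, x, y, x * y]
  have hwN : ∀ i, w i ∈ N := by
    intro i
    fin_cases i
    · exact N.one_mem
    · exact hx
    · exact hy
    · exact N.mul_mem hx hy
  have hw : ∀ i j, i < j → (w i)⁻¹ * w j ∉ A := by
    intro i j hij
    fin_cases i <;> fin_cases j <;> first | (exfalso; revert hij; decide) | skip
    · show (1 : G)⁻¹ * x ∉ A
      rwa [inv_one, one_mul]
    · show (1 : G)⁻¹ * y ∉ A
      rwa [inv_one, one_mul]
    · show (1 : G)⁻¹ * (x * y) ∉ A
      rwa [inv_one, one_mul]
    · exact n4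
    · show x⁻¹ * (x * y) ∉ A
      rwa [inv_mul_cancel_left]
    · exact n5
  have hw' : ∀ i j, (w i)⁻¹ * w j ∈ A → i = j := by
    intro i j h
    rcases lt_trichotomy i j with h1 | h1 | h1
    · exact absurd h (hw i j h1)
    · exact h1
    · exfalso
      apply hw j i h1
      have h2 : (w j)⁻¹ * w i = ((w i)⁻¹ * w j)⁻¹ := by group
      rw [h2]
      exact A.inv_mem h
  have hcov : ∀ n ∈ N, ∃ i, (w i)⁻¹ * n ∈ A := by
    intro n hn
    let f : Fin 4 → N ⧸ A.subgroupOf N := fun i => QuotientGroup.mk ⟨w i, hwN i⟩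
    have hf : Function.Injective f := by
      intro i j h
      rw [QuotientGroup.eq, Subgroup.mem_subgroupOf] at h
      exact hw' i j h
    have hcard : Nat.card (Fin 4) = Nat.card (N ⧸ A.subgroupOf N) := by
      rw [Nat.card_eq_fintype_card, Fintype.card_fin]
      exact h4.symm
    have hb := (Nat.bijective_iff_injective_and_card f).2 ⟨hf, hcard⟩
    obtain ⟨i, hi⟩ := hb.2 (QuotientGroup.mk ⟨n, hn⟩)
    refine ⟨i, ?_⟩
    have hi' : (QuotientGroup.mk ⟨w i, hwN i⟩ : N ⧸ A.subgroupOf N) = QuotientGroup.mk ⟨n, hn⟩ := hi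
    rw [QuotientGroup.eq, Subgroup.mem_subgroupOf] at hi'
    exact hi'
  have hcov4 : ∀ n ∈ N, n ∈ A ∨ x⁻¹ * n ∈ A ∨ y⁻¹ * n ∈ A ∨ (x * y)⁻¹ * n ∈ A := by
    intro n hn
    obtain ⟨i, hi⟩ := hcov n hn
    fin_cases i
    · left
      have hi' : (1 : G)⁻¹ * n ∈ A := hi
      rwa [inv_one, one_mul] at hi'
    · exact Or.inr (Or.inl hi)
    · exact Or.inr (Or.inr (Or.inl hi))
    · exact Or.inr (Or.inr (Or.inr hi))
  -- the commutator
  obtain ⟨z, hz, hzA⟩ : ∃ z, x * y = z * (y * x) ∧ z ∈ A := by
    refine ⟨x * y * (y * x)⁻¹, by group, ?_⟩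
    rcases hcov4 (y * x) (N.mul_mem hy hx) with h | h | h | h
    · exfalso
      have h1 := c h y
      apply hxy
      have h2 : y * (x * y) = y * (y * x) := by rw [← mul_assoc, h1]
      exact mul_left_cancel h2
    · exfalso
      have h1 := c h x
      apply hxy
      have h2 : y * x * x = x * (y * x) := by
        calc y * x * x = x * (x⁻¹ * (y * x) * x) := by group
          _ = x * (x * (x⁻¹ * (y * x))) := by rw [h1]
          _ = _ := by group
      have h3 : y * x * x = x * y * x := by rw [h2]; group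
      exact (mul_right_cancel h3).symm
    · exfalso
      apply n1
      rwa [inv_mul_cancel_left] at h
    · have h1 := c h (x * y)
      have h2 : x * y * (y * x)⁻¹ = ((x * y)⁻¹ * (y * x))⁻¹ := by
        have h3 : (x * y)⁻¹ * (y * x) * (x * y) = y * x := by rw [h1]; group
        have h4 : y * x * (x * y)⁻¹ = (x * y)⁻¹ * (y * x) := by
          calc y * x * (x * y)⁻¹ = (x * y)⁻¹ * (y * x) * (x * y) * (x * y)⁻¹ := by rw [h3]
            _ = _ := by group
        rw [← h4]; group
      rw [h2]
      exact A.inv_mem h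
  have hzc : ∀ g, z * g = g * z := hcen z hzA
  have hzne : z ≠ 1 := by
    rintro rfl
    rw [one_mul] at hz
    exact hxy hz
  have hxx : x * x ∈ A := by
    rcases hcov4 (x * x) (N.mul_mem hx hx) with h | h | h | h
    · exact h
    · exfalso; apply n1; rwa [inv_mul_cancel_left] at h
    · exfalso
      have h1 := c h x
      apply hxy
      have h2 : y⁻¹ * x * (x * x) = x * y⁻¹ * (x * x) := by
        calc y⁻¹ * x * (x * x) = y⁻¹ * (x * x) * x := by group
          _ = x * (y⁻¹ * (x * x)) := h1
          _ = _ := by group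
      have h3 := mul_right_cancel h2
      calc x * y = y * (y⁻¹ * x) * y := by group
        _ = y * (x * y⁻¹) * y := by rw [h3]
        _ = _ := by group
    · exfalso; apply n6
      have : (x * y)⁻¹ * (x * x) = y⁻¹ * x := by group
      rwa [this] at h
  have hyy : y * y ∈ A := by
    rcases hcov4 (y * y) (N.mul_mem hy hy) with h | h | h | h
    · exact h
    · exfalso
      have h1 := c h y
      apply hxy
      have h2 : x⁻¹ * y * (y * y) = y * x⁻¹ * (y * y) := by
        calc x⁻¹ * y * (y * y) = x⁻¹ * (y * y) * y := by group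
          _ = y * (x⁻¹ * (y * y)) := h1
          _ = _ := by group
      have h3 := mul_right_cancel h2
      calc x * y = x * (y * x⁻¹) * x := by group
        _ = x * (x⁻¹ * y) * x := by rw [h3]
        _ = _ := by group
    · exfalso; apply n2; rwa [inv_mul_cancel_left] at h
    · exfalso
      have h1 := c h y
      apply hxy
      have h2 : y⁻¹ * x⁻¹ * y * (y * y) = x⁻¹ * (y * y) := by
        calc y⁻¹ * x⁻¹ * y * (y * y) = (x * y)⁻¹ * (y * y) * y := by group
          _ = y * ((x * y)⁻¹ * (y * y)) := h1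
          _ = _ := by group
      have h3 := mul_right_cancel h2
      calc x * y = x * (y * x⁻¹) * x := by group
        _ = x * (y * (y⁻¹ * x⁻¹ * y)) * x := by rw [h3]
        _ = _ := by group
  have hzz : z * z = 1 := by
    have h1 : x * y * x⁻¹ = z * y := by rw [hz]; group
    have h2 : (x * x) * y * (x * x)⁻¹ = (z * z) * y := by
      calc (x * x) * y * (x * x)⁻¹ = x * (x * y * x⁻¹) * x⁻¹ := by group
        _ = x * (z * y) * x⁻¹ := by rw [h1]
        _ = (x * z) * y * x⁻¹ := by group
        _ = (z * x) * y * x⁻¹ := by rw [hzc]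
        _ = z * (x * y * x⁻¹) := by group
        _ = z * (z * y) := by rw [h1]
        _ = _ := by group
    have h3 : (x * x) * y * (x * x)⁻¹ = y := by
      rw [c hxx]; group
    rw [h3] at h2
    have h4 : 1 * y = (z * z) * y := by rw [one_mul]; exact h2
    exact (mul_right_cancel h4).symm
  have hz' : y * x = z * (x * y) := by
    rw [hz, ← mul_assoc, hzz, one_mul]
  let r : Fin 3 → G := ![x, y, x * y]
  have hrA : ∀ i, r i ∉ A := by
    intro i
    fin_cases i
    · exact n1
    · exact n2
    · exact n3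
  have hrN : ∀ i, r i ∈ N := by
    intro i
    fin_cases i
    · exact hx
    · exact hy
    · exact N.mul_mem hx hy
  have hcovr : ∀ n ∈ N, n ∈ A ∨ ∃ i, (r i)⁻¹ * n ∈ A := by
    intro n hn
    rcases hcov4 n hn with h | h | h | h
    · exact Or.inl h
    · exact Or.inr ⟨0, h⟩
    · exact Or.inr ⟨1, h⟩
    · exact Or.inr ⟨2, h⟩
  -- conjugates by inner elements
  refine ⟨r, z, ⟨hcen, ?_, ?_, hzne, hzA, ?_, ?_⟩, hrN, hzz, hcovr, hrA⟩
  · -- distinct
    intro i j h
    have h1 : ∀ i : Fin 3, r i = w i.succ := by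
      intro i
      fin_cases i <;> rfl
    rw [h1, h1] at h
    exact Fin.succ_injective _ (hw' _ _ h)
  · intro i j hij
    fin_cases i <;> fin_cases j <;> first | (exact absurd rfl hij) | skip
    · exact hz
    · show x * (x * y) = z * (x * y * x)
      calc x * (x * y) = x * (z * (y * x)) := by rw [hz]
        _ = (x * z) * (y * x) := by group
        _ = (z * x) * (y * x) := by rw [hzc]
        _ = _ := by group
    · exact hz'
    · show y * (x * y) = z * (x * y * y)
      calc y * (x * y) = (y * x) * y := by group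
        _ = z * (x * y) * y := by rw [hz']
        _ = _ := by group
    · show x * y * x = z * (x * (x * y))
      calc x * y * x = x * (y * x) := by group
        _ = x * (z * (x * y)) := by rw [hz']
        _ = (x * z) * (x * y) := by group
        _ = (z * x) * (x * y) := by rw [hzc]
        _ = _ := by group
    · show x * y * y = z * (y * (x * y))
      calc x * y * y = z * (y * x) * y := by rw [hz]
        _ = _ := by group
  · -- the action
    intro g i
    rcases hcovr _ (hN _ (hrN i) g) with h | h
    · exfalso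
      apply hrA i
      have h1 := c h g
      have h2 : r i = g * r i * g⁻¹ := by
        have h3 : g * r i * g⁻¹ * g = g * r i := by group
        rw [h3] at h1
        exact mul_left_cancel h1
      rw [h2]
      exact h
    · exact h
  · -- faithful
    intro g hg
    obtain ⟨a, ha, hga⟩ : ∃ a ∈ A, g * x * g⁻¹ = x * a := ⟨_, hg 0, by show _ = x * (x⁻¹ * (g * x * g⁻¹)); group⟩
    obtain ⟨b, hb, hgb⟩ : ∃ b ∈ A, g * y * g⁻¹ = y * b := ⟨_, hg 1, by show _ = y * (y⁻¹ * (g * y * g⁻¹)); group⟩
    have ha2 : a * a = 1 := by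
      have h1 : g * (x * x) * g⁻¹ = x * x * (a * a) := by
        calc g * (x * x) * g⁻¹ = (g * x * g⁻¹) * (g * x * g⁻¹) := by group
          _ = (x * a) * (x * a) := by rw [hga]
          _ = x * (a * x) * a := by group
          _ = x * (x * a) * a := by rw [c ha]
          _ = _ := by group
      have h2 : g * (x * x) * g⁻¹ = x * x := by rw [← c hxx]; group
      rw [h2] at h1
      have h3 : x * x * 1 = x * x * (a * a) := by rw [mul_one]; exact h1
      exact (mul_left_cancel h3).symm
    have hb2 : b * b = 1 := by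
      have h1 : g * (y * y) * g⁻¹ = y * y * (b * b) := by
        calc g * (y * y) * g⁻¹ = (g * y * g⁻¹) * (g * y * g⁻¹) := by group
          _ = (y * b) * (y * b) := by rw [hgb]
          _ = y * (b * y) * b := by group
          _ = y * (y * b) * b := by rw [c hb]
          _ = _ := by group
      have h2 : g * (y * y) * g⁻¹ = y * y := by rw [← c hyy]; group
      rw [h2] at h1
      have h3 : y * y * 1 = y * y * (b * b) := by rw [mul_one]; exact h1
      exact (mul_left_cancel h3).symm
    have haz : a = 1 ∨ a = z := by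
      by_cases h : a = 1
      · exact Or.inl h
      · exact Or.inr (hsq a ha z hzA ha2 hzz h hzne)
    have hbz : b = 1 ∨ b = z := by
      by_cases h : b = 1
      · exact Or.inl h
      · exact Or.inr (hsq b hb z hzA hb2 hzz h hzne)
    -- an element acting like `m` lies in `m A`
    have hfin : ∀ m ∈ N, m * x * m⁻¹ = x * a → m * y * m⁻¹ = y * b → m⁻¹ * g ∈ A := by
      intro m hm hmx hmy
      apply hcent
      have hx' : (m⁻¹ * g) * x = x * (m⁻¹ * g) := by
        have h1 : m * x * m⁻¹ = g * x * g⁻¹ := hmx.trans hga.symm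
        calc (m⁻¹ * g) * x = m⁻¹ * (g * x * g⁻¹) * g := by group
          _ = m⁻¹ * (m * x * m⁻¹) * g := by rw [h1]
          _ = _ := by group
      have hy' : (m⁻¹ * g) * y = y * (m⁻¹ * g) := by
        have h1 : m * y * m⁻¹ = g * y * g⁻¹ := hmy.trans hgb.symm
        calc (m⁻¹ * g) * y = m⁻¹ * (g * y * g⁻¹) * g := by group
          _ = m⁻¹ * (m * y * m⁻¹) * g := by rw [h1]
          _ = _ := by group
      have key : ∀ u v : G, (m⁻¹ * g) * u = u * (m⁻¹ * g) → u⁻¹ * v ∈ A → (m⁻¹ * g) * v = v * (m⁻¹ * g) := by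
        intro u v hu huv
        have h1 := c huv (m⁻¹ * g)
        calc (m⁻¹ * g) * v = (m⁻¹ * g) * u * (u⁻¹ * v) := by group
          _ = u * (m⁻¹ * g) * (u⁻¹ * v) := by rw [hu]
          _ = u * ((m⁻¹ * g) * (u⁻¹ * v)) := by group
          _ = u * ((u⁻¹ * v) * (m⁻¹ * g)) := by rw [h1]
          _ = _ := by group
      intro n hn
      rcases hcov4 n hn with h | h | h | h
      · exact (c h _).symm
      · exact key x n hx' h
      · exact key y n hy' h
      · refine key (x * y) n ?_ h
        calc (m⁻¹ * g) * (x * y) = ((m⁻¹ * g) * x) * y := by group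
          _ = x * ((m⁻¹ * g) * y) := by rw [hx']; group
          _ = x * y * (m⁻¹ * g) := by rw [hy']; group
    have hxyx : x * y * x⁻¹ = y * z := by
      rw [hz, ← hzc y]; group
    have hyxy : y * x * y⁻¹ = x * z := by
      rw [hz', ← hzc x]; group
    rcases haz with rfl | rfl
    · rcases hbz with rfl | rfl
      · left
        have := hfin 1 N.one_mem (by group) (by group)
        rwa [inv_one, one_mul] at this
      · right
        exact ⟨0, hfin x hx (by group) hxyx⟩
    · rcases hbz with rfl | rfl
      · right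
        exact ⟨1, hfin y hy hyxy (by group)⟩
      · right
        refine ⟨2, hfin (x * y) (N.mul_mem hx hy) ?_ ?_⟩
        · calc x * y * x * (x * y)⁻¹ = x * (y * x * y⁻¹) * x⁻¹ := by group
            _ = x * (x * b) * x⁻¹ := by rw [hyxy]
            _ = x * x * (b * x⁻¹) := by group
            _ = x * x * (x⁻¹ * b) := by rw [hzc]
            _ = _ := by group
        · calc x * y * y * (x * y)⁻¹ = x * y * x⁻¹ := by group
            _ = _ := hxyx

end

end Cfsg.Agent.H849.KGV
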