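import Cfsg.Agent.H849.KGV.QuadC
import Cfsg.Agent.H960.KGV.Core

/-!
# Task 2297 of helper960: the case `|N : A| = 4`
-/

set_option autoImplicit false

namespace Cfsg.Agent.H849.KGV

open Cfsg.Agent.H960.KGV Cfsg.Agent.H540.ClassNum Equiv

/-- the order of the group -/
theorem quad_card {G : Type*} [Group G] [Finite G] {A : Subgroup G} {r : Fin 3 → G} {z : G}
    (hq : Quad A r z) : Nat.card G ≤ 24 * Nat.card A := by
  classical
  have := Fintype.ofFinite G
  have h1 : FF hq.act 1 ≤ 4 * Nat.card A := by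
    have h2 : (Finset.univ.filter fun x : G => hq.act x = 1) ⊆
        (Finset.univ.filter fun x : G => x ∈ A) ∪
          (Finset.univ : Finset (Fin 3)).biUnion fun i => Finset.univ.filter fun x : G => (r i)⁻¹ * x ∈ A := by
      intro x hx
      rw [Finset.mem_union, Finset.mem_biUnion]
      rcases hq.mem_of_act_one (Finset.mem_filter.1 hx).2 with h | ⟨i, h⟩
      · exact Or.inl (Finset.mem_filter.2 ⟨Finset.mem_univ _, h⟩)
      · exact Or.inr ⟨i, Finset.mem_univ _, Finset.mem_filter.2 ⟨Finset.mem_univ _, h⟩⟩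
    have h3 : (Finset.univ.filter fun x : G => x ∈ A).card = Nat.card A := by
      rw [← Fintype.card_subtype, ← Nat.card_eq_fintype_card]
    have h4 : ∀ i, (Finset.univ.filter fun x : G => (r i)⁻¹ * x ∈ A).card ≤ Nat.card A := by
      intro i
      rw [← h3]
      apply Finset.card_le_card_of_injOn (fun x => (r i)⁻¹ * x)
      · intro x hx
        rw [Finset.mem_coe, Finset.mem_filter] at hx ⊢
        exact ⟨Finset.mem_univ _, hx.2⟩
      · intro a _ b _ h
        exact mul_left_cancel h
    have h5 := (Finset.card_le_card h2).trans (Finset.card_union_le _ _)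
    have h6 : ((Finset.univ : Finset (Fin 3)).biUnion fun i =>
        Finset.univ.filter fun x : G => (r i)⁻¹ * x ∈ A).card ≤ 3 * Nat.card A := by
      refine Finset.card_biUnion_le.trans ?_
      calc ∑ i : Fin 3, (Finset.univ.filter fun x : G => (r i)⁻¹ * x ∈ A).card
          ≤ ∑ _i : Fin 3, Nat.card A := Finset.sum_le_sum fun i _ => h4 i
        _ = 3 * Nat.card A := by rw [Finset.sum_const, Finset.card_univ, Fintype.card_fin, smul_eq_mul]
    have h7 : FF hq.act 1 = (Finset.univ.filter fun x : G => hq.act x = 1).card := rfl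
    rw [h7]
    omega
  rw [← sum_FF hq.act]
  calc ∑ α, FF hq.act α ≤ ∑ _α : Perm (Fin 3), FF hq.act 1 := Finset.sum_le_sum fun α _ => FF_le hq.act α
    _ = 6 * FF hq.act 1 := by
        rw [Finset.sum_const, Finset.card_univ, Fintype.card_perm, Fintype.card_fin, smul_eq_mul]
        rfl
    _ ≤ 24 * Nat.card A := by omega

theorem fix_exists : ∀ β : Perm (Fin 3), (β * β * β = 1 → β = 1) → ∃ i, β i = i := by decide

set_option maxRecDepth 10000 in
set_option synthInstance.maxSize 1000 in
set_option synthInstance.maxHeartbeats 200000 in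
theorem fix_common : ∀ α β : Perm (Fin 3), (α * α * α = 1 → α = 1) → (β * β * β = 1 → β = 1) →
    (α * β * (α * β) * (α * β) = 1 → α * β = 1) → β ≠ 1 → ∀ i, β i = i → α i = i := by decide

/-- a group acting on three points has order divisible by 3 or a fixed point -/
theorem three_dvd {H : Type*} [Group H] [Finite H] (τ : H →* Perm (Fin 3)) (h3 : ¬ 3 ∣ Nat.card H) :
    ∃ i, ∀ h, τ h i = i := by
  have h1 : ∀ h, τ h * τ h * τ h = 1 → τ h = 1 := by
    intro h hh
    by_contra hne
    apply h3
    have h2 : orderOf (τ h) = 3 := by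
      apply orderOf_eq_prime
      · rw [pow_succ, pow_two]; exact hh
      · exact hne
    rw [← h2]
    exact (orderOf_map_dvd τ h).trans (orderOf_dvd_natCard h)
  by_cases hall : ∀ h, τ h = 1
  · exact ⟨0, fun h => by rw [hall h]; rfl⟩
  · push Not at hall
    obtain ⟨h₀, hh₀⟩ := hall
    obtain ⟨i, hi⟩ := fix_exists (τ h₀) (h1 h₀)
    refine ⟨i, fun h => ?_⟩
    refine fix_common (τ h) (τ h₀) (h1 h) (h1 h₀) ?_ hh₀ i hi
    rw [← map_mul]
    exact h1 (h * h₀)

/-- the number of classes and the field -/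
theorem num_rel4 {p f a : ℕ} (hp5 : 5 ≤ p) (hp6 : p ≠ 6) (hf : 1 ≤ f) (ha : 2 ≤ a)
    (hne : ¬ (p = 5 ∧ f = 1 ∧ a = 2)) : 8 * f * (p ^ f - 1) ≤ (p ^ f) ^ a := by
  have hQ1 : 1 ≤ p ^ f := Nat.one_le_pow _ _ (by omega)
  have hQa : (p ^ f) ^ 2 ≤ (p ^ f) ^ a := Nat.pow_le_pow_right hQ1 ha
  rcases Nat.lt_or_ge f 2 with hf2 | hf2
  · have hf1 : f = 1 := by omega
    subst hf1
    rw [pow_one] at *
    rcases Nat.lt_or_ge p 7 with h7 | h7
    · have hp : p = 5 := by omega
      subst hp
      have ha3 : 3 ≤ a := by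
        by_contra hcon
        exact hne ⟨rfl, rfl, by omega⟩
      calc 8 * 1 * (5 - 1) ≤ 5 ^ 3 := by norm_num
        _ ≤ 5 ^ a := Nat.pow_le_pow_right (by norm_num) ha3
    · refine le_trans ?_ hQa
      obtain ⟨q, rfl⟩ : ∃ q, p = q + 7 := ⟨p - 7, by omega⟩
      have : q + 7 - 1 = q + 6 := by omega
      rw [this]
      nlinarith
  · refine le_trans ?_ hQa
    have h8 : 8 * f ≤ p ^ f := by
      calc 8 * f ≤ 5 ^ f := by
            clear hQ1 hQa hne hf
            induction f, hf2 using Nat.le_induction with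
            | base => norm_num
            | succ n hn ih => rw [pow_succ]; omega
        _ ≤ p ^ f := Nat.pow_le_pow_left hp5 f
    calc 8 * f * (p ^ f - 1) ≤ p ^ f * p ^ f := Nat.mul_le_mul h8 (Nat.sub_le _ _)
      _ = (p ^ f) ^ 2 := by ring

variable {H : Type} [Group H] {A N C : Subgroup H} {p f a : ℕ} {F : Type} [Field F] {ψ : C →* GL (Fin a) F}

section basic

theorem core_f (h : Core A N C p f a ψ) : 1 ≤ f := by
  by_contra hcon
  have hf : f = 0 := by omega
  have h1 := h.cardF
  rw [hf, pow_zero] at h1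
  have := (Nat.card_eq_one_iff_unique.1 h1).1
  exact one_ne_zero (Subsingleton.elim (1 : F) 0)

theorem core_finF (h : Core A N C p f a ψ) : Finite F := by
  apply Nat.finite_of_card_ne_zero
  rw [h.cardF]
  exact pow_ne_zero _ h.prime.ne_zero

theorem core_cen (h : Core A N C p f a ψ) {c : C} (hc : (c : H) ∈ A) (g : C) : c * g = g * c := by
  apply h.inj
  obtain ⟨s, hs⟩ := (h.scal c).1 hc
  apply Units.ext
  rw [map_mul, map_mul, Units.val_mul, Units.val_mul, hs, smul_mul_assoc, mul_smul_comm, one_mul, mul_one]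

theorem core_nonempty (h : Core A N C p f a ψ) : Nonempty (Fin a) := ⟨⟨0, by have := h.two_le; omega⟩⟩

/-- the scalar is determined -/
theorem core_scal_inj (h : Core A N C p f a ψ) {s t : F}
    (hst : s • (1 : Matrix (Fin a) (Fin a) F) = t • (1 : Matrix (Fin a) (Fin a) F)) : s = t := by
  obtain ⟨i⟩ := core_nonempty h
  have h1 := congrFun (congrFun hst i) i
  rw [Matrix.smul_apply, Matrix.smul_apply, Matrix.one_apply_eq, smul_eq_mul, smul_eq_mul, mul_one, mul_one] at h1
  exact h1

theorem core_cent (h : Core A N C p f a ψ) {g : C} (hg : ∀ n : C, (n : H) ∈ N → g * n = n * g) :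
    (g : H) ∈ A := by
  rw [h.scal]
  apply h.abs
  intro c hc
  rw [← Units.val_mul, ← Units.val_mul, ← map_mul, ← map_mul, hg c hc]

/-- the order of `A` -/
theorem core_cardA (h : Core A N C p f a ψ) : Nat.card A + 1 ≤ p ^ f := by
  classical
  have := core_finF h
  have := Fintype.ofFinite F
  have hAC : A ≤ C := h.AN.trans h.NC
  have h1 : ∀ x : A, ∃ s : Fˣ, (ψ ⟨x, hAC x.2⟩ : Matrix (Fin a) (Fin a) F) = (s : F) • 1 := by
    intro x
    obtain ⟨s, hs⟩ := (h.scal ⟨x, hAC x.2⟩).1 x.2
    have hs0 : s ≠ 0 := by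
      rintro rfl
      rw [zero_smul] at hs
      obtain ⟨i⟩ := core_nonempty h
      have h2 : (ψ ⟨x, hAC x.2⟩ : Matrix (Fin a) (Fin a) F) * ((ψ ⟨x, hAC x.2⟩)⁻¹ : GL (Fin a) F) = 1 :=
        Units.mul_inv _
      rw [hs, zero_mul] at h2
      have h3 := congrFun (congrFun h2 i) i
      rw [Matrix.one_apply_eq] at h3
      exact zero_ne_one h3
    exact ⟨Units.mk0 s hs0, hs⟩
  choose s hs using h1
  have hinj : Function.Injective s := by
    intro x y hxy
    have h2 : ψ ⟨x, hAC x.2⟩ = ψ ⟨y, hAC y.2⟩ := by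
      apply Units.ext
      rw [hs, hs, hxy]
    exact Subtype.ext (congrArg (fun c : C => (c : H)) (h.inj h2))
  have h2 := Nat.card_le_card_of_injective s hinj
  rw [Nat.card_units, h.cardF] at h2
  have h3 : 1 ≤ p ^ f := Nat.one_le_pow _ _ h.prime.pos
  omega

end basic

/-- **the case `|N : A| = 4`** (task 2297 of helper960) -/
theorem core_rel4 (h : Core A N C p f a ψ) (h4 : A.relIndex N = 4) :
    (∀ R : Subgroup H, Two R → 2 * Nat.card (ConjClasses R) ≤ (p ^ f) ^ a) ∨
      ((p ^ f) ^ a = 25 ∧ Nat.card H ≤ 96 ∧ ∀ P : Subgroup H, Nat.card (ConjClasses P) ≤ 16) := by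
  classical
  have := h.fin
  have hAC : A ≤ C := h.AN.trans h.NC
  have hf := core_f h
  obtain ⟨r, z, hq, hrN, hzz, hcov, hrA⟩ := quad_exists (A.subgroupOf C) (N.subgroupOf C)
    (fun c hc g => core_cen h (Subgroup.mem_subgroupOf.1 hc) g)
    (fun n hn g => by
      rw [Subgroup.mem_subgroupOf] at hn ⊢
      exact h.Nn.conj_mem _ hn _)
    (by rw [Subgroup.relIndex_subgroupOf h.NC]; exact h4)
    (fun g hg => Subgroup.mem_subgroupOf.2 (core_cent h fun n hn => hg n (Subgroup.mem_subgroupOf.2 hn)))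
    (by
      intro x hx y hy hx2 hy2 hx1 hy1
      obtain ⟨s, hs⟩ := (h.scal x).1 (Subgroup.mem_subgroupOf.1 hx)
      obtain ⟨t, ht⟩ := (h.scal y).1 (Subgroup.mem_subgroupOf.1 hy)
      have key : ∀ (c : C) (u : F), (ψ c : Matrix (Fin a) (Fin a) F) = u • 1 → c * c = 1 → c ≠ 1 → u = -1 := by
        intro c u hu hc2 hc1
        have h1 : u * u = 1 := by
          apply core_scal_inj h
          have h2 : (ψ (c * c) : Matrix (Fin a) (Fin a) F) = (u * u) • 1 := by
            rw [map_mul, Units.val_mul, hu, smul_mul_assoc, one_mul, smul_smul]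
          rw [hc2, map_one, Units.val_one] at h2
          rw [← h2, one_smul]
        have h2 : u ≠ 1 := by
          rintro rfl
          apply hc1
          apply h.inj
          apply Units.ext
          rw [hu, one_smul, map_one, Units.val_one]
        rcases mul_self_eq_one_iff.1 h1 with h3 | h3
        · exact absurd h3 h2
        · exact h3
      apply h.inj
      apply Units.ext
      rw [hs, ht, key x s hs hx2 hx1, key y t ht hy2 hy1])
  have hcA : Nat.card (A.subgroupOf C) = Nat.card A := Nat.card_congr (Subgroup.subgroupOfEquivOfLe hAC).toEquiv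
  -- the bound for all subgroups
  have hidx : C.index ≤ f := Nat.le_of_dvd hf h.index
  have hall : ∀ P : Subgroup H, Nat.card (ConjClasses P) ≤ f * (4 * Nat.card A) := by
    intro P
    have hCn := h.Cn
    let φ : C.subgroupOf P →* C :=
      { toFun := fun x => ⟨((x : P) : H), Subgroup.mem_subgroupOf.1 x.2⟩
        map_one' := rfl
        map_mul' := fun _ _ => rfl }
    have hφ : Function.Injective φ := by
      intro x y hxy
      apply Subtype.ext
      apply Subtype.ext
      exact congrArg (fun c : C => (c : H)) hxy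
    have h1 := quad_le hq φ
    have h2 : Nat.card ((A.subgroupOf C).comap φ) ≤ Nat.card A := by
      rw [← hcA]
      apply Nat.card_le_card_of_injective
        (fun x : (A.subgroupOf C).comap φ => (⟨φ x, x.2⟩ : A.subgroupOf C))
      intro x y hxy
      apply Subtype.ext
      apply hφ
      exact congrArg Subtype.val hxy
    have h3 : (C.subgroupOf P).index ≤ f := by
      have h5 : C.relIndex P ∣ C.index := Subgroup.relIndex_dvd_index_of_normal C P
      have h6 : C.relIndex P ≤ C.index :=
        Nat.le_of_dvd (Nat.pos_of_ne_zero Subgroup.index_ne_zero_of_finite) h5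
      exact h6.trans hidx
    calc Nat.card (ConjClasses P) ≤ (C.subgroupOf P).index * Nat.card (ConjClasses (C.subgroupOf P)) :=
          le_index_mul' _
      _ ≤ f * (4 * Nat.card A) := Nat.mul_le_mul h3 (h1.trans (Nat.mul_le_mul_left _ h2))
  have hcardA := core_cardA h
  -- `p ≠ 2`
  have hp2 : p ≠ 2 := by
    rintro rfl
    apply h.coprime
    have h1 : orderOf z = 2 := orderOf_eq_prime (by rw [pow_two]; exact hzz) hq.z_ne
    rw [← h1]
    exact (orderOf_dvd_natCard z).trans (Subgroup.card_subgroup_dvd_card C)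
  -- `p ≠ 3`
  have hp3 : p ≠ 3 := by
    rintro rfl
    have hAn := h.An
    have hstab : ∀ (g : H) (i : Fin 3), ∃ j, ((r j : C) : H)⁻¹ * (g * (r i : H) * g⁻¹) ∈ A := by
      intro g i
      have h1 : g * (r i : H) * g⁻¹ ∈ N := h.Nn.conj_mem _ (Subgroup.mem_subgroupOf.1 (hrN i)) g
      have h2 : (⟨g * (r i : H) * g⁻¹, h.NC h1⟩ : C) ∈ N.subgroupOf C := Subgroup.mem_subgroupOf.2 h1
      rcases hcov _ h2 with h3 | ⟨j, h3⟩
      · exfalso
        apply hrA i
        rw [Subgroup.mem_subgroupOf] at h3 ⊢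
        have h4 := hAn.conj_mem _ h3 g⁻¹
        have h5 : g⁻¹ * (g * (r i : H) * g⁻¹) * g⁻¹⁻¹ = r i := by group
        rw [h5] at h4
        exact h4
      · exact ⟨j, Subgroup.mem_subgroupOf.1 h3⟩
    have huniq : ∀ (n : H) (i j : Fin 3), ((r i : C) : H)⁻¹ * n ∈ A → ((r j : C) : H)⁻¹ * n ∈ A → i = j := by
      intro n i j hi hj
      apply hq.dist
      rw [Subgroup.mem_subgroupOf]
      have h1 : (((r i)⁻¹ * r j : C) : H) = ((r i : H)⁻¹ * n) * ((r j : H)⁻¹ * n)⁻¹ := by
        rw [Subgroup.coe_mul, Subgroup.coe_inv]; group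
      rw [h1]
      exact A.mul_mem hi (A.inv_mem hj)
    choose s hs using hstab
    have hsm : ∀ g h i, s (g * h) i = s g (s h i) := by
      intro g g' i
      apply huniq ((g * g') * (r i : H) * (g * g')⁻¹)
      · exact hs (g * g') i
      · have h1 := hs g' i
        have h2 := hs g (s g' i)
        have h3 := hAn.conj_mem _ h1 g
        have h4 : ((r (s g (s g' i)) : C) : H)⁻¹ * (g * g' * (r i : H) * (g * g')⁻¹) =
            (((r (s g (s g' i)) : C) : H)⁻¹ * (g * (r (s g' i) : H) * g⁻¹)) *
              (g * (((r (s g' i) : C) : H)⁻¹ * (g' * (r i : H) * g'⁻¹)) * g⁻¹) := by group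
        rw [h4]
        exact A.mul_mem h2 h3
    have hs1 : ∀ i, s 1 i = i := by
      intro i
      apply huniq (1 * (r i : H) * 1⁻¹) _ _ (hs 1 i)
      have : ((r i : C) : H)⁻¹ * (1 * (r i : H) * 1⁻¹) = 1 := by group
      rw [this]
      exact A.one_mem
    let τ : H →* Perm (Fin 3) :=
      { toFun := fun g =>
          { toFun := s g
            invFun := s g⁻¹
            left_inv := fun i => by rw [← hsm, inv_mul_cancel, hs1]
            right_inv := fun i => by rw [← hsm, mul_inv_cancel, hs1] }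
        map_one' := by
          ext i
          show (s 1 i : ℕ) = i
          rw [hs1]
        map_mul' := fun g g' => by
          ext i
          show (s (g * g') i : ℕ) = s g (s g' i)
          rw [hsm] }
    obtain ⟨i, hi⟩ := three_dvd τ h.coprime
    -- the centralizer of `r i` in `N` is normal
    let M : Subgroup H := N ⊓ Subgroup.centralizer {((r i : C) : H)}
    have hMn : M.Normal := by
      constructor
      intro m hm g
      obtain ⟨hm1, hm2⟩ := Subgroup.mem_inf.1 hm
      rw [Subgroup.mem_centralizer_singleton_iff] at hm2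
      refine Subgroup.mem_inf.2 ⟨h.Nn.conj_mem _ hm1 g, ?_⟩
      rw [Subgroup.mem_centralizer_singleton_iff]
      have h1 := hs g i
      have h2 : s g i = i := hi g
      rw [h2] at h1
      -- `g r g⁻¹ = r a`
      obtain ⟨b, hb, hgb⟩ : ∃ b ∈ A, g * (r i : H) * g⁻¹ = (r i : H) * b := ⟨_, h1, by group⟩
      have hgm : g * m * g⁻¹ ∈ N := h.Nn.conj_mem _ hm1 g
      have h3 : b * (g * m * g⁻¹) = (g * m * g⁻¹) * b := by
        have h4 := core_cen h (c := ⟨b, hAC hb⟩) hb ⟨g * m * g⁻¹, h.NC hgm⟩
        exact congrArg (fun c : C => (c : H)) h4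
      have h5 : (g * m * g⁻¹) * ((r i : H) * b) = ((r i : H) * b) * (g * m * g⁻¹) := by
        rw [← hgb]
        calc g * m * g⁻¹ * (g * (r i : H) * g⁻¹) = g * (m * (r i : H)) * g⁻¹ := by group
          _ = g * ((r i : H) * m) * g⁻¹ := by rw [hm2]
          _ = _ := by group
      have h6 : (g * m * g⁻¹ * (r i : H)) * b = ((r i : H) * (g * m * g⁻¹)) * b := by
        calc (g * m * g⁻¹ * (r i : H)) * b = (g * m * g⁻¹) * ((r i : H) * b) := by group
          _ = ((r i : H) * b) * (g * m * g⁻¹) := h5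
          _ = (r i : H) * (b * (g * m * g⁻¹)) := by group
          _ = (r i : H) * ((g * m * g⁻¹) * b) := by rw [h3]
          _ = _ := by group
      exact mul_right_cancel h6
    have hAM : A ≤ M := by
      intro b hb
      refine Subgroup.mem_inf.2 ⟨h.AN hb, ?_⟩
      rw [Subgroup.mem_centralizer_singleton_iff]
      have h4 := core_cen h (c := ⟨b, hAC hb⟩) hb (r i)
      exact congrArg (fun c : C => (c : H)) h4
    rcases h.min M hMn hAM inf_le_left with h1 | h1
    · apply hrA i
      rw [Subgroup.mem_subgroupOf, ← h1]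
      refine Subgroup.mem_inf.2 ⟨Subgroup.mem_subgroupOf.1 (hrN i), ?_⟩
      rw [Subgroup.mem_centralizer_singleton_iff]
    · obtain ⟨j, hj⟩ : ∃ j : Fin 3, j ≠ i := exists_ne i
      have h2 : ((r j : C) : H) ∈ M := by
        rw [h1]; exact Subgroup.mem_subgroupOf.1 (hrN j)
      have h3 := (Subgroup.mem_inf.1 h2).2
      rw [Subgroup.mem_centralizer_singleton_iff] at h3
      apply hq.not_comm hj (y := r j) (y' := r i)
      · rw [inv_mul_cancel]; exact Subgroup.one_mem _
      · rw [inv_mul_cancel]; exact Subgroup.one_mem _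
      · exact Subtype.ext h3
  have hp5 : 5 ≤ p := by
    have h1 := h.prime.two_le
    have h4 : p ≠ 4 := by
      rintro rfl
      exact absurd h.prime (by norm_num)
    omega
  have hp6 : p ≠ 6 := by
    rintro rfl
    exact absurd h.prime (by norm_num)
  by_cases hcase : p = 5 ∧ f = 1 ∧ a = 2
  · right
    obtain ⟨rfl, rfl, rfl⟩ := hcase
    have hA4 : Nat.card A ≤ 4 := by
      rw [pow_one] at hcardA
      omega
    refine ⟨by norm_num, ?_, ?_⟩
    · have h1 : C.index = 1 := Nat.dvd_one.1 h.index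
      have h2 := C.card_mul_index
      have h3 := quad_card hq
      rw [hcA] at h3
      rw [h1, mul_one] at h2
      omega
    · intro P
      have := hall P
      omega
  · left
    intro R _
    have h1 := hall R
    have h2 := num_rel4 hp5 hp6 hf h.two_le hcase
    calc 2 * Nat.card (ConjClasses R) ≤ 2 * (f * (4 * Nat.card A)) := Nat.mul_le_mul_left _ h1
      _ = 8 * f * Nat.card A := by ring
      _ ≤ 8 * f * (p ^ f - 1) := Nat.mul_le_mul_left _ (by omega)
      _ ≤ (p ^ f) ^ a := h2

end Cfsg.Agent.H849.KGV
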