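import Cfsg.Agent.H960.KGV.Core
import Cfsg.Agent.H849.KGV.Cls
import Cfsg.Agent.Omega.EH3.Clif.Rep
import Cfsg.Agent.Lib.FieldAutCard

/-!
# The tensor case of KGV (project of helper960): the two projections

`N` a group of automorphisms of `V`, `W` a simple `alg N`-submodule, `V` isotypic, `R` a group normalising `N`.
* `el` : elements of `alg N`;
* `comm_alg`, `toSub` : maps commuting with `N`, subgroups stable under `N`;
* `Rel N W T g` : `T` is an automorphism of `W` inducing the same automorphism of `N` as `g`;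
* `PP` : the group of the pairs `(T, g)`;
* `exists_T` : every `g ∈ R` has a partner `T`.
-/

set_option autoImplicit false

namespace Cfsg.Agent.H849.KGV

open Cfsg.Agent.H960.KGV Cfsg.Agent.H540.ClassNum

variable {p : ℕ} {V : Type} [AddCommGroup V] [Module (ZMod p) V]

/-- shortcut -/
abbrev iM (N : Subgroup (V ≃ₗ[ZMod p] V)) (W : Submodule (alg N) V) : Module (alg N) W := W.module
/-- shortcut -/
abbrev iS (N : Subgroup (V ≃ₗ[ZMod p] V)) (W : Submodule (alg N) V) : SMul (alg N) W := W.module.toSMul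
/-- shortcut -/
abbrev iV (N : Subgroup (V ≃ₗ[ZMod p] V)) : SMul (alg N) V := (alg N).moduleLeft.toSMul

attribute [local instance] iM iS iV

/-- element of `alg N` -/
def el {N : Subgroup (V ≃ₗ[ZMod p] V)} {n : V ≃ₗ[ZMod p] V} (hn : n ∈ N) : alg N :=
  ⟨(n : V →ₗ[ZMod p] V), Algebra.subset_adjoin ⟨n, hn, rfl⟩⟩

theorem el_smul {N : Subgroup (V ≃ₗ[ZMod p] V)} {n : V ≃ₗ[ZMod p] V} (hn : n ∈ N) (v : V) :
    el hn • v = n v := rfl

theorem coe_el_smul {N : Subgroup (V ≃ₗ[ZMod p] V)} {n : V ≃ₗ[ZMod p] V} (hn : n ∈ N)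
    {W : Submodule (alg N) V} (w : W) : ((el hn • w : W) : V) = n (w : V) := rfl

theorem mem_of_mem {N : Subgroup (V ≃ₗ[ZMod p] V)} {n : V ≃ₗ[ZMod p] V} (hn : n ∈ N)
    {W : Submodule (alg N) V} {w : V} (hw : w ∈ W) : n w ∈ W := W.smul_mem (el hn) hw

/-- induction on the elements of `alg N` -/
theorem alg_induction {N : Subgroup (V ≃ₗ[ZMod p] V)} {C : alg N → Prop}
    (hel : ∀ (n : V ≃ₗ[ZMod p] V) (hn : n ∈ N), C (el hn)) (hint : ∀ k : ℤ, C (k : alg N))
    (hadd : ∀ a b, C a → C b → C (a + b)) (hmul : ∀ a b, C a → C b → C (a * b)) (a : alg N) : C a := by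
  obtain ⟨a, ha⟩ := a
  induction ha using Algebra.adjoin_induction with
  | mem x hx =>
    obtain ⟨n, hn, rfl⟩ := hx
    exact hel n hn
  | algebraMap r =>
    obtain ⟨k, rfl⟩ := ZMod.intCast_surjective r
    have h := hint k
    have h2 : (k : alg N) = ⟨algebraMap (ZMod p) (Module.End (ZMod p) V) (k : ZMod p),
        Subalgebra.algebraMap_mem (alg N) (k : ZMod p)⟩ := by
      apply Subtype.ext
      show ((k : alg N) : Module.End (ZMod p) V) = algebraMap (ZMod p) (Module.End (ZMod p) V) (k : ZMod p)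
      rw [map_intCast]
      exact map_intCast (alg N).val k
    rw [h2] at h
    exact h
  | add x y hx hy h1 h2 => exact hadd ⟨x, hx⟩ ⟨y, hy⟩ h1 h2
  | mul x y hx hy h1 h2 => exact hmul ⟨x, hx⟩ ⟨y, hy⟩ h1 h2

/-- additive maps commuting with `N` commute with `alg N` -/
theorem comm_alg {N : Subgroup (V ≃ₗ[ZMod p] V)} {M M' : Type*} [AddCommGroup M] [AddCommGroup M']
    [Module (alg N) M] [Module (alg N) M'] (F : M →+ M')
    (h : ∀ (n : V ≃ₗ[ZMod p] V) (hn : n ∈ N) (m : M), F (el hn • m) = el hn • F m) (b : alg N) :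
    ∀ m : M, F (b • m) = b • F m := by
  induction b using alg_induction with
  | hel n hn => exact h n hn
  | hint k =>
    intro m
    rw [Int.cast_smul_eq_zsmul, Int.cast_smul_eq_zsmul, map_zsmul]
  | hadd a b ha hb =>
    intro m
    rw [add_smul, add_smul, map_add, ha, hb]
  | hmul a b ha hb =>
    intro m
    rw [mul_smul, mul_smul, ha, hb]

/-- subgroups stable under `N` -/
def toSub {N : Subgroup (V ≃ₗ[ZMod p] V)} (X : AddSubgroup V) (hX : ∀ n ∈ N, ∀ v ∈ X, n v ∈ X) :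
    Submodule (alg N) V where
  carrier := X
  add_mem' := fun hu hv => X.add_mem hu hv
  zero_mem' := X.zero_mem
  smul_mem' := by
    intro b
    induction b using alg_induction with
    | hel n hn => exact fun {v} hv => hX n hn v hv
    | hint k =>
      intro v hv
      rw [Int.cast_smul_eq_zsmul]
      exact X.zsmul_mem hv k
    | hadd a b ha hb =>
      intro v hv
      rw [add_smul]
      exact X.add_mem (ha hv) (hb hv)
    | hmul a b ha hb =>
      intro v hv
      rw [mul_smul]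
      exact ha (hb hv)

theorem mem_toSub {N : Subgroup (V ≃ₗ[ZMod p] V)} {X : AddSubgroup V} {hX : ∀ n ∈ N, ∀ v ∈ X, n v ∈ X}
    {v : V} : v ∈ toSub X hX ↔ v ∈ X := Iff.rfl

/-- additive automorphisms are linear over the prime field -/
def mkZ {A B : Type*} [AddCommGroup A] [AddCommGroup B] [Module (ZMod p) A] [Module (ZMod p) B] (e : A ≃+ B) :
    A ≃ₗ[ZMod p] B :=
  { e with map_smul' := fun c x => ZMod.map_smul e.toAddMonoidHom c x }

@[simp] theorem mkZ_apply {A B : Type*} [AddCommGroup A] [AddCommGroup B] [Module (ZMod p) A]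
    [Module (ZMod p) B] (e : A ≃+ B) (a : A) : mkZ (p := p) e a = e a := rfl

section

variable (N R : Subgroup (V ≃ₗ[ZMod p] V)) (W : Submodule (alg N) V)

/-- `T` induces the same automorphism of `N` as `g` -/
def Rel (T : W ≃ₗ[ZMod p] W) (g : V ≃ₗ[ZMod p] V) : Prop :=
  ∀ (n : V ≃ₗ[ZMod p] V) (hn : n ∈ N) (w : W), (T (el hn • w) : V) = (g * n * g⁻¹) (T w : V)

variable {N R}

theorem inv_conj (hRN : ∀ g ∈ R, ∀ x ∈ N, g * x * g⁻¹ ∈ N) {g : V ≃ₗ[ZMod p] V} (hg : g ∈ R)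
    {x : V ≃ₗ[ZMod p] V} (hx : x ∈ N) : g⁻¹ * x * g ∈ N := by
  have h := hRN g⁻¹ (R.inv_mem hg) x hx
  rwa [inv_inv] at h

/-- the group of pairs -/
def PP (hRN : ∀ g ∈ R, ∀ x ∈ N, g * x * g⁻¹ ∈ N) :
    Subgroup ((W ≃ₗ[ZMod p] W) × (V ≃ₗ[ZMod p] V)) where
  carrier := {x | x.2 ∈ R ∧ Rel N W x.1 x.2}
  one_mem' := by
    refine ⟨R.one_mem, ?_⟩
    intro n hn w
    show ((el hn • w : W) : V) = (1 * n * 1⁻¹) (w : V)
    rw [inv_one, mul_one, one_mul]
    rfl
  mul_mem' := by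
    rintro ⟨T, g⟩ ⟨T', g'⟩ ⟨hg, h1⟩ ⟨hg', h2⟩
    refine ⟨R.mul_mem hg hg', ?_⟩
    intro n hn w
    show ((T (T' (el hn • w)) : W) : V) = ((g * g') * n * (g * g')⁻¹) (T (T' w) : V)
    have h3 : T' (el hn • w) = el (hRN g' hg' n hn) • T' w := by
      apply Subtype.ext
      rw [coe_el_smul]
      exact h2 n hn w
    rw [h3]
    have h4 := h1 _ (hRN g' hg' n hn) (T' w)
    have h5 : g * (g' * n * g'⁻¹) * g⁻¹ = (g * g') * n * (g * g')⁻¹ := by group
    rw [h4, h5]
  inv_mem' := by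
    rintro ⟨T, g⟩ ⟨hg, h1⟩
    refine ⟨R.inv_mem hg, ?_⟩
    intro n hn w
    show ((T⁻¹ (el hn • w) : W) : V) = (g⁻¹ * n * g⁻¹⁻¹) (T⁻¹ w : V)
    have h2 : T⁻¹ (el hn • w) = el (inv_conj hRN hg hn) • T⁻¹ w := by
      apply T.injective
      have h3 : T (T⁻¹ (el hn • w)) = el hn • w := T.apply_symm_apply _
      rw [h3]
      apply Subtype.ext
      rw [h1 _ (inv_conj hRN hg hn) (T⁻¹ w)]
      have h4 : T (T⁻¹ w) = w := T.apply_symm_apply _
      rw [h4, coe_el_smul]
      congr 1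
      group
    rw [h2, coe_el_smul, inv_inv]

theorem mem_PP {hRN : ∀ g ∈ R, ∀ x ∈ N, g * x * g⁻¹ ∈ N} {x : (W ≃ₗ[ZMod p] W) × (V ≃ₗ[ZMod p] V)} :
    x ∈ PP W hRN ↔ x.2 ∈ R ∧ Rel N W x.1 x.2 := Iff.rfl

/-- every `g` has a partner -/
theorem exists_T (hRN : ∀ g ∈ R, ∀ x ∈ N, g * x * g⁻¹ ∈ N) (hiso : IsIsotypic (alg N) V)
    (hW : IsSimpleModule (alg N) W) {g : V ≃ₗ[ZMod p] V} (hg : g ∈ R) :
    ∃ T : W ≃ₗ[ZMod p] W, Rel N W T g := by
  -- the image of `W` under `g`
  let gX : (g' : V ≃ₗ[ZMod p] V) → AddSubgroup V → AddSubgroup V := fun g' X =>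
    X.map (g' : V →ₗ[ZMod p] V).toAddMonoidHom
  have hgX : ∀ g' ∈ R, ∀ X : AddSubgroup V, (∀ n ∈ N, ∀ v ∈ X, n v ∈ X) →
      ∀ n ∈ N, ∀ v ∈ gX g' X, n v ∈ gX g' X := by
    rintro g' hg' X hX n hn _ ⟨v, hv, rfl⟩
    refine ⟨(g'⁻¹ * n * g') v, hX _ (inv_conj hRN hg' hn) v hv, ?_⟩
    show g' ((g'⁻¹ * n * g') v) = n (g' v)
    have : (g' * (g'⁻¹ * n * g')) v = (n * g') v := by congr 1; group
    exact this
  have hWN : ∀ n ∈ N, ∀ v ∈ W.toAddSubgroup, n v ∈ W.toAddSubgroup := fun n hn v hv => mem_of_mem hn hv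
  let W' : Submodule (alg N) V := toSub (gX g W.toAddSubgroup) (hgX g hg _ hWN)
  have hmem : ∀ w : W, g (w : V) ∈ W' := fun w => ⟨w, w.2, rfl⟩
  have hmem' : ∀ v ∈ W', g⁻¹ v ∈ W := by
    rintro _ ⟨v, hv, rfl⟩
    have : g⁻¹ (g v) = v := g.symm_apply_apply v
    show g⁻¹ (g v) ∈ W
    rw [this]; exact hv
  have hW' : IsSimpleModule (alg N) W' := by
    rw [isSimpleModule_iff_isAtom]
    have hWa := isSimpleModule_iff_isAtom.1 hW
    refine ⟨?_, ?_⟩
    · intro hb
      apply hWa.1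
      rw [eq_bot_iff]
      intro w hw
      have h1 := hmem ⟨w, hw⟩
      rw [hb, Submodule.mem_bot] at h1
      rw [Submodule.mem_bot]
      exact g.injective (h1.trans (map_zero g).symm)
    · intro X hX
      let Y : Submodule (alg N) V := toSub (gX g⁻¹ X.toAddSubgroup)
        (hgX g⁻¹ (R.inv_mem hg) _ fun n hn v hv => mem_of_mem hn hv)
      have hY : Y < W := by
        refine lt_of_le_of_ne ?_ ?_
        · rintro _ ⟨v, hv, rfl⟩
          exact hmem' v (hX.le hv)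
        · intro hYW
          apply hX.not_ge
          rintro _ ⟨w, hw, rfl⟩
          have hw' : w ∈ W := hw
          rw [← hYW] at hw'
          obtain ⟨v, hv, hvw⟩ := hw'
          have : g w = v := by
            rw [← hvw]; exact g.apply_symm_apply v
          show g w ∈ X
          rw [this]; exact hv
      have hYb := hWa.2 Y hY
      rw [eq_bot_iff]
      intro v hv
      have h1 : g⁻¹ v ∈ Y := ⟨v, hv, rfl⟩
      rw [hYb, Submodule.mem_bot] at h1
      rw [Submodule.mem_bot]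
      exact g⁻¹.injective (h1.trans (map_zero _).symm)
  obtain ⟨φ⟩ := hiso W W'
  let e : W ≃+ W :=
    { toFun := fun w => φ ⟨g w, hmem w⟩
      invFun := fun w => ⟨g⁻¹ (φ.symm w : V), hmem' _ (φ.symm w).2⟩
      left_inv := fun w => by
        apply Subtype.ext
        show g⁻¹ ((φ.symm (φ ⟨g w, hmem w⟩) : W') : V) = w
        rw [φ.symm_apply_apply]
        exact g.symm_apply_apply _
      right_inv := fun w => by
        show φ ⟨g (g⁻¹ (φ.symm w : V)), _⟩ = w
        have : (⟨g (g⁻¹ (φ.symm w : V)), hmem ⟨g⁻¹ (φ.symm w : V), hmem' _ (φ.symm w).2⟩⟩ : W') = φ.symm w := by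
          apply Subtype.ext
          exact g.apply_symm_apply _
        rw [this, φ.apply_symm_apply]
      map_add' := fun w w' => by
        rw [← map_add]
        congr 1
        apply Subtype.ext
        show g ((w : V) + (w' : V)) = g w + g w'
        rw [map_add] }
  refine ⟨mkZ e, ?_⟩
  intro n hn w
  show ((φ ⟨g ((el hn • w : W) : V), _⟩ : W) : V) = (g * n * g⁻¹) ((φ ⟨g w, hmem w⟩ : W) : V)
  have h1 : (⟨g ((el hn • w : W) : V), hmem (el hn • w)⟩ : W') = el (hRN g hg n hn) • (⟨g w, hmem w⟩ : W') := by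
    apply Subtype.ext
    show g (n (w : V)) = (g * n * g⁻¹) (g w)
    have : (g * n) (w : V) = ((g * n * g⁻¹) * g) w := by congr 1; group
    exact this
  rw [h1, map_smul, coe_el_smul]

end

end Cfsg.Agent.H849.KGV
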