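import Cfsg.Agent.H849.KGV.TensA

/-!
# The tensor case of KGV: the group on `W`, the group on `Hom(W, V)`

* `main_hom` : the group `Rt` on `W` and its homomorphism onto `R / C_R(N)`;
* `card_ker` : the kernel consists of the nonzero elements of `End W`;
* `cent_lt` : `k(C_R(N)) < |Hom(W, V)|`.
-/

set_option autoImplicit false

namespace Cfsg.Agent.H849.KGV

open Cfsg.Agent.H960.KGV Cfsg.Agent.H540.ClassNum

variable {p : ℕ} {V : Type} [AddCommGroup V] [Module (ZMod p) V]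

attribute [local instance] iM iS iV

variable (N R : Subgroup (V ≃ₗ[ZMod p] V)) 

/-- the centralizer of `N` in `R` -/
def R1 : Subgroup R := (Subgroup.centralizer (N : Set (V ≃ₗ[ZMod p] V))).subgroupOf R

variable {N R}

theorem mem_R1 {g : R} : g ∈ R1 N R ↔ ∀ n ∈ N, n * (g : V ≃ₗ[ZMod p] V) = g * n := by
  show (g : V ≃ₗ[ZMod p] V) ∈ Subgroup.centralizer (N : Set (V ≃ₗ[ZMod p] V)) ↔ _
  rw [Subgroup.mem_centralizer_iff]
  rfl

theorem R1_normal (hRN : ∀ g ∈ R, ∀ x ∈ N, g * x * g⁻¹ ∈ N) : (R1 N R).Normal := by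
  constructor
  intro c hc g
  rw [mem_R1] at hc ⊢
  intro n hn
  have h1 := hc _ (inv_conj hRN g.2 hn)
  show n * (g * c * (g : V ≃ₗ[ZMod p] V)⁻¹) = (g * c * (g : V ≃ₗ[ZMod p] V)⁻¹) * n
  calc n * (g * c * (g : V ≃ₗ[ZMod p] V)⁻¹) = g * (((g : V ≃ₗ[ZMod p] V)⁻¹ * n * g) * c) * (g : V ≃ₗ[ZMod p] V)⁻¹ := by group
    _ = g * (c * ((g : V ≃ₗ[ZMod p] V)⁻¹ * n * g)) * (g : V ≃ₗ[ZMod p] V)⁻¹ := by rw [h1]
    _ = _ := by group

theorem finite_GL (M : Type) [AddCommGroup M] [Module (ZMod p) M] [Finite M] : Finite (M ≃ₗ[ZMod p] M) :=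
  Finite.of_injective (fun e => (e : M → M)) DFunLike.coe_injective

/-- **the group on `W`** -/
theorem main_hom [Finite V] (W : Submodule (alg N) V) (hRN : ∀ g ∈ R, ∀ x ∈ N, g * x * g⁻¹ ∈ N)
    (hiso : IsIsotypic (alg N) V) (hW : IsSimpleModule (alg N) W)
    (hfaith : ∀ n ∈ N, (∀ w : W, n (w : V) = w) → n = 1) :
    ∃ (Rt : Subgroup (W ≃ₗ[ZMod p] W)) (Y : Type) (_ : Group Y) (_ : Finite Y) (θ : Rt →* Y),
      Function.Surjective θ ∧ (∀ T ∈ Rt, ∃ g ∈ R, Rel N W T g) ∧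
      (∀ T : Rt, T ∈ θ.ker ↔ ∀ (n : V ≃ₗ[ZMod p] V) (hn : n ∈ N) (w : W),
        (T : W ≃ₗ[ZMod p] W) (el hn • w) = el hn • (T : W ≃ₗ[ZMod p] W) w) ∧
      (∀ T : W ≃ₗ[ZMod p] W, (∀ (n : V ≃ₗ[ZMod p] V) (hn : n ∈ N) (w : W),
        T (el hn • w) = el hn • T w) → T ∈ Rt) ∧
      Nat.card (ConjClasses R) ≤ Nat.card (ConjClasses (R1 N R)) * Nat.card (ConjClasses Y) ∧
      Nat.card Y ∣ Nat.card R := by
  have := R1_normal hRN
  have := finite_GL (p := p) V
  let p1 : PP W hRN →* (W ≃ₗ[ZMod p] W) := (MonoidHom.fst _ _).comp (PP W hRN).subtype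
  let p2 : PP W hRN →* R :=
    ((MonoidHom.snd _ _).comp (PP W hRN).subtype).codRestrict R (fun x => x.2.1)
  let θ₀ : PP W hRN →* R ⧸ R1 N R := (QuotientGroup.mk' (R1 N R)).comp p2
  have hp2 : Function.Surjective p2 := by
    rintro ⟨g, hg⟩
    obtain ⟨T, hT⟩ := exists_T W hRN hiso hW hg
    exact ⟨⟨(T, g), hg, hT⟩, rfl⟩
  have hθ₀ : Function.Surjective θ₀ := (QuotientGroup.mk'_surjective _).comp hp2
  have hker : p1.rangeRestrict.ker ≤ θ₀.ker := by
    rintro ⟨⟨T, g⟩, hg, hT⟩ hx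
    rw [MonoidHom.ker_rangeRestrict, MonoidHom.mem_ker] at hx
    have hx' : T = 1 := hx
    subst hx'
    rw [MonoidHom.mem_ker]
    show (QuotientGroup.mk' (R1 N R)) ⟨g, hg⟩ = 1
    rw [QuotientGroup.mk'_apply, QuotientGroup.eq_one_iff, mem_R1]
    intro n hn
    have h1 : n⁻¹ * (g * n * g⁻¹) = 1 := by
      apply hfaith _ (N.mul_mem (N.inv_mem hn) (hRN g hg n hn))
      intro w
      have h2 : n (w : V) = (g * n * g⁻¹) (w : V) := hT n hn w
      show n⁻¹ ((g * n * g⁻¹) (w : V)) = w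
      rw [← h2]
      exact n.symm_apply_apply _
    have h3 : g * n * g⁻¹ = n := (inv_mul_eq_one.1 h1).symm
    show n * g = g * n
    calc n * g = (g * n * g⁻¹) * g := by rw [h3]
      _ = g * n := by group
  let θ : p1.range →* R ⧸ R1 N R :=
    p1.rangeRestrict.liftOfSurjective p1.rangeRestrict_surjective ⟨θ₀, hker⟩
  have hθ : ∀ x, θ (p1.rangeRestrict x) = θ₀ x := fun x =>
    MonoidHom.liftOfRightInverse_comp_apply _ _ _ ⟨θ₀, hker⟩ x
  refine ⟨p1.range, R ⧸ R1 N R, inferInstance, inferInstance, θ, ?_, ?_, ?_, ?_, ?_, ?_⟩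
  · intro y
    obtain ⟨x, rfl⟩ := hθ₀ y
    exact ⟨_, hθ x⟩
  · rintro _ ⟨⟨⟨T, g⟩, hg, hT⟩, rfl⟩
    exact ⟨g, hg, hT⟩
  · rintro ⟨_, ⟨⟨T, g⟩, hg, hT⟩, rfl⟩
    have h1 : (⟨p1 ⟨(T, g), hg, hT⟩, ⟨_, rfl⟩⟩ : p1.range) = p1.rangeRestrict ⟨(T, g), hg, hT⟩ := rfl
    constructor
    · intro h n hn w
      rw [h1, MonoidHom.mem_ker, hθ] at h
      have h2 : (QuotientGroup.mk' (R1 N R)) ⟨g, hg⟩ = 1 := h
      rw [QuotientGroup.mk'_apply, QuotientGroup.eq_one_iff, mem_R1] at h2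
      have h3 : n * g = g * n := h2 n hn
      have h4 : g * n * g⁻¹ = n := by rw [← h3]; group
      apply Subtype.ext
      have h5 := hT n hn w
      rw [h4] at h5
      exact h5
    · intro h
      have hmem : ((T, (1 : V ≃ₗ[ZMod p] V)) : (W ≃ₗ[ZMod p] W) × (V ≃ₗ[ZMod p] V)) ∈ PP W hRN := by
        refine ⟨R.one_mem, ?_⟩
        intro n hn w
        have h2 : T (el hn • w) = el hn • T w := h n hn w
        show (T (el hn • w) : V) = (1 * n * 1⁻¹) (T w : V)
        rw [h2, inv_one, mul_one, one_mul]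
        rfl
      have h2 : (⟨p1 ⟨(T, g), hg, hT⟩, ⟨_, rfl⟩⟩ : p1.range) = p1.rangeRestrict ⟨(T, 1), hmem⟩ := rfl
      rw [h2, MonoidHom.mem_ker, hθ]
      show (QuotientGroup.mk' (R1 N R)) (p2 ⟨(T, 1), hmem⟩) = 1
      have h3 : p2 ⟨(T, 1), hmem⟩ = 1 := rfl
      rw [h3, map_one]
  · intro T h
    have hmem : ((T, (1 : V ≃ₗ[ZMod p] V)) : (W ≃ₗ[ZMod p] W) × (V ≃ₗ[ZMod p] V)) ∈ PP W hRN := by
      refine ⟨R.one_mem, ?_⟩
      intro n hn w
      have h2 : T (el hn • w) = el hn • T w := h n hn w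
      show (T (el hn • w) : V) = (1 * n * 1⁻¹) (T w : V)
      rw [h2, inv_one, mul_one, one_mul]
      rfl
    exact ⟨⟨(T, 1), hmem⟩, rfl⟩
  · exact le_normal_mul_quotient (R1 N R)
  · exact (R1 N R).card_quotient_dvd_card

/-- the kernel consists of the nonzero elements of `End W` -/
theorem card_ker [Finite V] (W : Submodule (alg N) V) (hW : IsSimpleModule (alg N) W)
    {Rt : Subgroup (W ≃ₗ[ZMod p] W)} {Y : Type} [Group Y] (θ : Rt →* Y)
    (h1 : ∀ T : Rt, T ∈ θ.ker ↔ ∀ (n : V ≃ₗ[ZMod p] V) (hn : n ∈ N) (w : W),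
        (T : W ≃ₗ[ZMod p] W) (el hn • w) = el hn • (T : W ≃ₗ[ZMod p] W) w)
    (h2 : ∀ T : W ≃ₗ[ZMod p] W, (∀ (n : V ≃ₗ[ZMod p] V) (hn : n ∈ N) (w : W),
        T (el hn • w) = el hn • T w) → T ∈ Rt) :
    Nat.card θ.ker + 1 = Nat.card (Module.End (alg N) W) := by
  classical
  have hWn : Nontrivial W := IsSimpleModule.nontrivial (alg N) W
  have hfin : Finite (Module.End (alg N) W) := Finite.of_injective (fun f => (f : W → W)) DFunLike.coe_injective
  have hb : ∀ k : Module.End (alg N) W, k ≠ 0 → Function.Bijective k := fun k hk => by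
    rcases LinearMap.bijective_or_eq_zero (R := alg N) (M := W) (N := W) k with h | h
    · exact h
    · exact absurd h hk
  have e : θ.ker ≃ {k : Module.End (alg N) W // k ≠ 0} :=
    { toFun := fun T => ⟨{ toFun := fun w => (T : W ≃ₗ[ZMod p] W) w
                           map_add' := map_add _
                           map_smul' := fun b w => comm_alg (M := W) (M' := W)
                             ((T : W ≃ₗ[ZMod p] W) : W ≃+ W).toAddMonoidHom ((h1 T).1 T.2) b w }, by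
          intro h
          obtain ⟨w, hw⟩ := exists_ne (0 : W)
          apply hw
          have h3 := LinearMap.congr_fun h w
          exact (T : W ≃ₗ[ZMod p] W).injective (h3.trans (map_zero _).symm)⟩
      invFun := fun k => ⟨⟨mkZ (AddEquiv.ofBijective (k : Module.End (alg N) W).toAddMonoidHom
          (hb k k.2)), h2 _ (fun n hn w => (k : Module.End (alg N) W).map_smul (el hn) w)⟩,
        (h1 _).2 (fun n hn w => (k : Module.End (alg N) W).map_smul (el hn) w)⟩
      left_inv := fun T => by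
        apply Subtype.ext
        apply Subtype.ext
        ext w
        rfl
      right_inv := fun k => by
        apply Subtype.ext
        ext w
        rfl }
  rw [Nat.card_congr e]
  have h3 : Nat.card {k : Module.End (alg N) W // k = 0} = 1 := by
    rw [Nat.card_eq_one_iff_unique]
    exact ⟨⟨fun a b => Subtype.ext (a.2.trans b.2.symm)⟩, ⟨⟨0, rfl⟩⟩⟩
  have h4 := Nat.card_congr (Equiv.sumCompl (fun k : Module.End (alg N) W => k = 0))
  rw [Nat.card_sum, h3] at h4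
  have h5 : Nat.card {k : Module.End (alg N) W // k ≠ 0} = Nat.card {k : Module.End (alg N) W // ¬ k = 0} := rfl
  rw [h5, ← h4, add_comm]

/-- faithful groups have few classes -/
theorem lt_of_faithful [Fact p.Prime] {X U : Type} [Group X] [Finite X] [AddCommGroup U] [Module (ZMod p) U]
    [Finite U] (h : Lt (Nat.card U)) (hU : 1 < Nat.card U) (τ : X →* (U ≃ₗ[ZMod p] U))
    (hτ : Function.Injective τ) (hX : ¬ p ∣ Nat.card X) : Nat.card (ConjClasses X) < Nat.card U := by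
  have e : X ≃* τ.range := MonoidHom.ofInjective hτ
  rw [card_conjClasses_congr e]
  refine h p U rfl hU τ.range ?_
  rwa [← Nat.card_congr e.toEquiv]

/-- **the centralizer acts on `Hom(W, V)`** -/
theorem cent_lt [Fact p.Prime] [Finite V] (W : Submodule (alg N) V)
    (htop : isotypicComponent (alg N) V W = ⊤) (hR : ¬ p ∣ Nat.card R)
    (hU : 1 < Nat.card (W →ₗ[alg N] V)) (IH : Lt (Nat.card (W →ₗ[alg N] V))) :
    Nat.card (ConjClasses (R1 N R)) < Nat.card (W →ₗ[alg N] V) := by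
  have hfin : Finite (W →ₗ[alg N] V) := Finite.of_injective (fun f => (f : W → V)) DFunLike.coe_injective
  have := finite_GL (p := p) V
  -- the linear map of an element of the centralizer
  let gl : R1 N R → (V →ₗ[alg N] V) := fun g =>
    { toFun := fun v => ((g : R) : V ≃ₗ[ZMod p] V) v
      map_add' := map_add _
      map_smul' := fun b v => comm_alg (((g : R) : V ≃ₗ[ZMod p] V) : V ≃+ V).toAddMonoidHom
        (fun n hn v => by
          have h1 := mem_R1.1 g.2 n hn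
          exact (DFunLike.congr_fun h1 v).symm) b v }
  have hgl1 : gl 1 = LinearMap.id := by
    ext v; rfl
  have hglm : ∀ g g' : R1 N R, gl (g * g') = gl g ∘ₗ gl g' := by
    intro g g'
    ext v; rfl
  let τ : R1 N R →* ((W →ₗ[alg N] V) ≃ₗ[ZMod p] (W →ₗ[alg N] V)) :=
    { toFun := fun g => mkZ
        { toFun := fun φ => gl g ∘ₗ φ
          invFun := fun φ => gl g⁻¹ ∘ₗ φ
          left_inv := fun φ => by
            show gl g⁻¹ ∘ₗ (gl g ∘ₗ φ) = φ
            rw [← LinearMap.comp_assoc, ← hglm, inv_mul_cancel, hgl1, LinearMap.id_comp]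
          right_inv := fun φ => by
            show gl g ∘ₗ (gl g⁻¹ ∘ₗ φ) = φ
            rw [← LinearMap.comp_assoc, ← hglm, mul_inv_cancel, hgl1, LinearMap.id_comp]
          map_add' := fun φ φ' => LinearMap.comp_add _ _ _ }
      map_one' := by
        ext φ
        show (gl 1 ∘ₗ φ) _ = φ _
        rw [hgl1, LinearMap.id_comp]
      map_mul' := fun g g' => by
        ext φ w
        show (gl (g * g') ∘ₗ φ) w = (gl g ∘ₗ (gl g' ∘ₗ φ)) w
        rw [hglm, LinearMap.comp_assoc] }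
  have hτ : Function.Injective τ := by
    intro g g' h
    have h1 : ∀ φ : W →ₗ[alg N] V, gl g ∘ₗ φ = gl g' ∘ₗ φ := fun φ => DFunLike.congr_fun h φ
    have h2 : LinearMap.eqLocus (gl g) (gl g') = ⊤ := by
      rw [eq_top_iff, ← htop, isotypicComponent]
      apply sSup_le
      rintro m ⟨ψ⟩ v hv
      rw [LinearMap.mem_eqLocus]
      have h3 := LinearMap.congr_fun (h1 (m.subtype ∘ₗ (ψ.symm : W →ₗ[alg N] m))) (ψ ⟨v, hv⟩)
      have h4 : gl g ((ψ.symm (ψ ⟨v, hv⟩) : m) : V) = gl g' ((ψ.symm (ψ ⟨v, hv⟩) : m) : V) := h3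
      rw [ψ.symm_apply_apply] at h4
      exact h4
    apply Subtype.ext
    apply Subtype.ext
    ext v
    have h5 : v ∈ LinearMap.eqLocus (gl g) (gl g') := by rw [h2]; exact Submodule.mem_top
    exact h5
  exact lt_of_faithful IH hU τ hτ (fun hd => hR (hd.trans (Subgroup.card_subgroup_dvd_card _)))

end Cfsg.Agent.H849.KGV
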