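import Cfsg.Agent.H849.KGV.TensB

/-!
# The tensor case of KGV: the case of two planes

* `card_GL2` : the order of `GL_2(p)`;
* `two_two` : `2 k(Y) ≤ Q ^ 2 + 1` if a group `Rt` of semilinear automorphisms of a plane over the field with
  `Q ≥ 3` elements, of order prime to `p`, has the quotient `Y` by the scalars (and all scalars belong to `Rt`).
-/

set_option autoImplicit false
set_option linter.unusedSectionVars false

namespace Cfsg.Agent.H849.KGV

open Cfsg.Agent.H960.KGV Cfsg.Agent.H540.ClassNum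

theorem card_GL2 {p : ℕ} [Fact p.Prime] {W : Type} [AddCommGroup W] [Module (ZMod p) W] [Finite W]
    (hW : Nat.card W = p ^ 2) : Nat.card (W ≃ₗ[ZMod p] W) = (p ^ 2 - 1) * (p ^ 2 - p) := by
  classical
  have hfr : Module.finrank (ZMod p) W = 2 := by
    have h1 := Module.natCard_eq_pow_finrank (K := ZMod p) (V := W)
    rw [hW, Nat.card_zmod] at h1
    exact (Nat.pow_right_injective (Fact.out : p.Prime).two_le h1).symm
  let b := Module.finBasisOfFinrankEq (ZMod p) W hfr
  have e : (W ≃ₗ[ZMod p] W) ≃* GL (Fin 2) (ZMod p) :=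
    (LinearMap.GeneralLinearGroup.generalLinearEquiv (ZMod p) W).symm.trans
      (Units.mapEquiv (LinearMap.toMatrixAlgEquiv b).toMulEquiv)
  rw [Nat.card_congr e.toEquiv, Matrix.card_GL_field, Fin.prod_univ_two]
  simp only [ZMod.card, Fin.val_zero, Fin.val_one, pow_zero, pow_one]

variable {p : ℕ} {W K : Type} [AddCommGroup W] [Module (ZMod p) W] [Finite W]
  [Field K] [Finite K] [Module K W]

section

variable (K) (Rt : Subgroup (W ≃ₗ[ZMod p] W))

/-- the linear part -/
def Rl : Subgroup Rt where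
  carrier := {T | ∀ (k : K) (w : W), (T : W ≃ₗ[ZMod p] W) (k • w) = k • (T : W ≃ₗ[ZMod p] W) w}
  one_mem' := fun _ _ => rfl
  mul_mem' := by
    intro S T hS hT k w
    show (S : W ≃ₗ[ZMod p] W) ((T : W ≃ₗ[ZMod p] W) (k • w)) = k • (S : W ≃ₗ[ZMod p] W) ((T : W ≃ₗ[ZMod p] W) w)
    rw [hT, hS]
  inv_mem' := by
    intro T hT k w
    apply (T : W ≃ₗ[ZMod p] W).injective
    have h1 : ∀ u, (T : W ≃ₗ[ZMod p] W) (((T⁻¹ : Rt) : W ≃ₗ[ZMod p] W) u) = u := fun u =>
      (T : W ≃ₗ[ZMod p] W).apply_symm_apply u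
    rw [h1, hT, h1]

variable {K Rt}

theorem mem_Rl {T : Rt} : T ∈ Rl K Rt ↔
    ∀ (k : K) (w : W), (T : W ≃ₗ[ZMod p] W) (k • w) = k • (T : W ≃ₗ[ZMod p] W) w := Iff.rfl

/-- the number of cosets of the linear part -/
theorem index_Rl_le [Nontrivial W] (hnor : ∀ T ∈ Rt, ∀ k : K, ∃ k' : K, ∀ w, T (k • w) = k' • T w) :
    (Rl K Rt).index ≤ Nat.card (K ≃+* K) := by
  classical
  have : Finite (W ≃ₗ[ZMod p] W) := finite_GL W
  have := Finite.of_injective (fun f : K ≃+* K => (f : K → K)) DFunLike.coe_injective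
  choose s hs using hnor
  -- uniqueness
  have huniq : ∀ (T : W ≃ₗ[ZMod p] W) (a b : K), (∀ w, a • T w = b • T w) → a = b := by
    intro T a b h
    obtain ⟨w, hw⟩ := exists_ne (0 : W)
    have h1 := h (T.symm w)
    rw [T.apply_symm_apply] at h1
    have h2 : (a - b) • w = 0 := by rw [sub_smul, h1, sub_self]
    rcases smul_eq_zero.1 h2 with h3 | h3
    · exact sub_eq_zero.1 h3
    · exact absurd h3 hw
  let σ : (T : Rt) → (K →+* K) := fun T =>
    { toFun := s T T.2
      map_one' := huniq T _ _ fun w => by rw [← hs, one_smul, one_smul]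
      map_mul' := fun a b => huniq T _ _ fun w => by rw [← hs, mul_smul, hs, hs, mul_smul]
      map_zero' := huniq T _ _ fun w => by rw [← hs, zero_smul, map_zero, zero_smul]
      map_add' := fun a b => huniq T _ _ fun w => by rw [← hs, add_smul, map_add, hs, hs, add_smul] }
  have hσ : ∀ (T : Rt) (k : K) (w : W), (T : W ≃ₗ[ZMod p] W) (k • w) = σ T k • (T : W ≃ₗ[ZMod p] W) w :=
    fun T k w => hs T T.2 k w
  let τ : Rt → (K ≃+* K) := fun T =>
    RingEquiv.ofBijective (σ T) ⟨(σ T).injective, Finite.surjective_of_injective (σ T).injective⟩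
  have hτ : ∀ T k, τ T k = σ T k := fun _ _ => rfl
  let F : Rt ⧸ Rl K Rt → (K ≃+* K) := fun q => τ q.out
  have hF : Function.Injective F := by
    intro q q' h
    have h1 : ∀ k, σ q.out k = σ q'.out k := fun k => DFunLike.congr_fun h k
    have h2 : (q.out)⁻¹ * q'.out ∈ Rl K Rt := by
      intro k w
      show ((q.out : Rt) : W ≃ₗ[ZMod p] W).symm (((q'.out : Rt) : W ≃ₗ[ZMod p] W) (k • w)) =
        k • ((q.out : Rt) : W ≃ₗ[ZMod p] W).symm (((q'.out : Rt) : W ≃ₗ[ZMod p] W) w)
      rw [LinearEquiv.symm_apply_eq, hσ, hσ, LinearEquiv.apply_symm_apply, h1]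
    have h3 : (q.out : Rt ⧸ Rl K Rt) = q'.out := QuotientGroup.eq.2 h2
    rwa [QuotientGroup.out_eq', QuotientGroup.out_eq'] at h3
  exact Nat.card_le_card_of_injective F hF

variable (K Rt) in
/-- as linear automorphisms -/
def lin : Rl K Rt →* (W ≃ₗ[K] W) where
  toFun T := { ((T : Rt) : W ≃ₗ[ZMod p] W) with map_smul' := fun k w => T.2 k w }
  map_one' := by ext; rfl
  map_mul' _ _ := by ext; rfl

theorem lin_apply (T : Rl K Rt) (w : W) : lin K Rt T w = ((T : Rt) : W ≃ₗ[ZMod p] W) w := rfl

/-- the determinant of a scalar -/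
theorem det_scalar (hrank : Module.finrank K W = 2) {T : Rl K Rt} {k : K}
    (h : ∀ w, ((T : Rt) : W ≃ₗ[ZMod p] W) w = k • w) : (LinearEquiv.det (lin K Rt T) : K) = k ^ 2 := by
  have h1 : ((lin K Rt T : W ≃ₗ[K] W) : W →ₗ[K] W) = k • LinearMap.id := by
    ext w
    exact h w
  rw [LinearEquiv.coe_det, h1, LinearMap.det_smul, hrank, LinearMap.det_id, mul_one]

theorem sq_one {k : K} (h : k ^ 2 = 1) : k = 1 ∨ k = -1 := by
  have h1 : (k - 1) * (k + 1) = 0 := by ring_nf; rw [h]; ring
  rcases mul_eq_zero.1 h1 with h2 | h2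
  · exact Or.inl (sub_eq_zero.1 h2)
  · exact Or.inr (eq_neg_of_add_eq_zero_left h2)

/-- square roots of 1 -/
theorem card_sq_one {t : ℕ} (ht : t = 2 ∨ t = 1 ∧ (2 : K) = 0) : Nat.card {k : K // k ^ 2 = 1} ≤ t := by
  classical
  rcases ht with rfl | ⟨rfl, h2⟩
  · have h1 : Function.Injective (fun k : {k : K // k ^ 2 = 1} => if (k : K) = 1 then true else false) := by
      intro a b h
      apply Subtype.ext
      rcases sq_one a.2 with ha | ha
      · rcases sq_one b.2 with hb | hb
        · rw [ha, hb]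
        · by_cases hb1 : (b : K) = 1
          · rw [ha, hb1]
          · have h3 : (if (a : K) = 1 then true else false) = (if (b : K) = 1 then true else false) := h
            rw [if_pos ha, if_neg hb1] at h3
            exact absurd h3 (by decide)
      · rcases sq_one b.2 with hb | hb
        · by_cases ha1 : (a : K) = 1
          · rw [ha1, hb]
          · have h3 : (if (a : K) = 1 then true else false) = (if (b : K) = 1 then true else false) := h
            rw [if_pos hb, if_neg ha1] at h3
            exact absurd h3 (by decide)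
        · rw [ha, hb]
    have h2 := Nat.card_le_card_of_injective _ h1
    rwa [Nat.card_eq_fintype_card (α := Bool), Fintype.card_bool] at h2
  · have h1 : ∀ a : {k : K // k ^ 2 = 1}, (a : K) = 1 := by
      intro a
      rcases sq_one a.2 with ha | ha
      · exact ha
      · rw [ha]
        have : (1 : K) + 1 = 0 := by rw [← h2]; norm_num
        exact (eq_neg_of_add_eq_zero_left this).symm
    have : Subsingleton {k : K // k ^ 2 = 1} := ⟨fun a b => Subtype.ext ((h1 a).trans (h1 b).symm)⟩
    exact Finite.card_le_one_iff_subsingleton.2 this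

/-- the linear part modulo scalars -/
theorem lin_le [Fact p.Prime] (hrank : Module.finrank K W = 2) (IH : Lt (Nat.card W)) (hR : ¬ p ∣ Nat.card Rt)
    {Y : Type} [Group Y] (θ : Rt →* Y)
    (hker : ∀ T : Rt, T ∈ θ.ker ↔ ∃ k : K, ∀ w, (T : W ≃ₗ[ZMod p] W) w = k • w)
    (hsc : ∀ k : K, k ≠ 0 → ∃ T ∈ Rt, ∀ w, T w = k • w) {t : ℕ} (ht : t = 2 ∨ t = 1 ∧ (2 : K) = 0) :
    Nat.card (ConjClasses ((Rl K Rt).map θ)) ≤ t * (Nat.card K + 1) := by
  classical
  have : Finite (W ≃ₗ[ZMod p] W) := finite_GL W
  have hWK : Nat.card W = Nat.card K ^ 2 := by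
    rw [Module.natCard_eq_pow_finrank (K := K) (V := W), hrank]
  have hK : 1 < Nat.card K := Finite.one_lt_card
  have hW1 : 1 < Nat.card W := by rw [hWK]; nlinarith
  have : Nontrivial W := Finite.one_lt_card_iff_nontrivial.1 hW1
  have huniq : ∀ (a b : K), (∀ w : W, a • w = b • w) → a = b := by
    intro a b h
    obtain ⟨w, hw⟩ := exists_ne (0 : W)
    have h2 : (a - b) • w = 0 := by rw [sub_smul, h w, sub_self]
    rcases smul_eq_zero.1 h2 with h3 | h3
    · exact sub_eq_zero.1 h3
    · exact absurd h3 hw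
  let π : Rl K Rt →* (Rl K Rt).map θ := θ.subgroupMap (Rl K Rt)
  have hπ : Function.Surjective π := θ.subgroupMap_surjective (Rl K Rt)
  let δ : Rl K Rt →* Kˣ := LinearEquiv.det.comp (lin K Rt)
  have hπk : ∀ T : Rl K Rt, T ∈ π.ker ↔ ∃ k : K, ∀ w, ((T : Rt) : W ≃ₗ[ZMod p] W) w = k • w := by
    intro T
    rw [← hker (T : Rt), MonoidHom.mem_ker, MonoidHom.mem_ker, Subtype.ext_iff]
    rfl
  -- the kernel of `π` and `δ`
  have h1 : Nat.card (π.ker ⊓ δ.ker : Subgroup (Rl K Rt)) ≤ t := by
    refine le_trans ?_ (card_sq_one (K := K) ht)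
    have h2 : ∀ T : (π.ker ⊓ δ.ker : Subgroup (Rl K Rt)), ∃ k : K, k ^ 2 = 1 ∧
        ∀ w, (((T : Rl K Rt) : Rt) : W ≃ₗ[ZMod p] W) w = k • w := by
      rintro ⟨T, hT⟩
      obtain ⟨hT1, hT2⟩ := Subgroup.mem_inf.1 hT
      obtain ⟨k, hk⟩ := (hπk T).1 hT1
      refine ⟨k, ?_, hk⟩
      rw [← det_scalar hrank hk]
      have h3 : δ T = 1 := hT2
      have h4 : LinearEquiv.det (lin K Rt T) = 1 := h3
      rw [h4, Units.val_one]
    choose f hf1 hf2 using h2
    apply Nat.card_le_card_of_injective (fun T => (⟨f T, hf1 T⟩ : {k : K // k ^ 2 = 1}))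
    intro S T h
    have h3 : f S = f T := congrArg Subtype.val h
    apply Subtype.ext
    apply Subtype.ext
    apply Subtype.ext
    ext w
    rw [hf2, hf2, h3]
  have h2 := ker_mul_le π hπ δ t h1
  -- the order of the kernel
  have h3 : Nat.card K - 1 ≤ Nat.card π.ker := by
    have h4 : ∀ k : Kˣ, ∃ T : π.ker, ∀ w, (((T : Rl K Rt) : Rt) : W ≃ₗ[ZMod p] W) w = (k : K) • w := by
      intro k
      obtain ⟨T, hT, hTk⟩ := hsc k k.ne_zero
      have h5 : (⟨T, hT⟩ : Rt) ∈ Rl K Rt := by
        intro a w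
        show T (a • w) = a • T w
        rw [hTk, hTk, smul_smul, smul_smul, mul_comm]
      exact ⟨⟨⟨⟨T, hT⟩, h5⟩, (hπk _).2 ⟨k, hTk⟩⟩, hTk⟩
    choose g hg using h4
    have h5 : Function.Injective g := by
      intro a b h
      apply Units.ext
      apply huniq
      intro w
      rw [← hg a w, ← hg b w, h]
    have h6 := Nat.card_le_card_of_injective g h5
    rwa [Nat.card_units] at h6
  -- the classes of the linear part
  have h4 : Nat.card (ConjClasses (Rl K Rt)) < Nat.card W := by
    refine lt_of_faithful (p := p) IH hW1 (Rt.subtype.comp (Rl K Rt).subtype) ?_ ?_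
    · exact (Subgroup.subtype_injective _).comp (Subgroup.subtype_injective _)
    · exact fun hd => hR (hd.trans (Subgroup.card_subgroup_dvd_card _))
  rw [hWK] at h4
  have h5 : (Nat.card K - 1) * Nat.card (ConjClasses ((Rl K Rt).map θ)) ≤
      (Nat.card K - 1) * (t * (Nat.card K + 1)) := by
    calc (Nat.card K - 1) * Nat.card (ConjClasses ((Rl K Rt).map θ))
        ≤ Nat.card π.ker * Nat.card (ConjClasses ((Rl K Rt).map θ)) := Nat.mul_le_mul_right _ h3
      _ ≤ t * Nat.card (ConjClasses (Rl K Rt)) := h2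
      _ ≤ t * (Nat.card K ^ 2 - 1) := Nat.mul_le_mul_left _ (by omega)
      _ = (Nat.card K - 1) * (t * (Nat.card K + 1)) := by
          obtain ⟨q, hq⟩ : ∃ q, Nat.card K = q + 1 := ⟨Nat.card K - 1, by omega⟩
          rw [hq]
          have : (q + 1) ^ 2 - 1 = q * (q + 2) := by
            have : (q + 1) ^ 2 = q * (q + 2) + 1 := by ring
            omega
          rw [this, Nat.add_sub_cancel]
          ring
  exact Nat.le_of_mul_le_mul_left h5 (by omega)

/-- arithmetic -/
theorem arith_odd {p f : ℕ} (hp : p.Prime) (hp2 : p ≠ 2) (hf : 1 ≤ f) (h3 : p ^ f ≠ 3) : 4 * f + 1 ≤ p ^ f := by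
  have hp3 : 3 ≤ p := by
    have := hp.two_le
    omega
  rcases Nat.lt_or_ge p 5 with h5 | h5
  · have hp3' : p = 3 := by
      interval_cases p
      · rfl
      · exact absurd hp (by norm_num)
    subst hp3'
    have hf2 : 2 ≤ f := by
      by_contra hcon
      have : f = 1 := by omega
      subst this
      exact h3 (by norm_num)
    clear h3 hf
    induction f, hf2 using Nat.le_induction with
    | base => norm_num
    | succ n hn ih => rw [pow_succ]; omega
  · calc 4 * f + 1 ≤ 5 ^ f := by
          clear h3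
          induction f, hf using Nat.le_induction with
          | base => norm_num
          | succ n hn ih => rw [pow_succ]; omega
      _ ≤ p ^ f := Nat.pow_le_pow_left h5 f

theorem arith_two {f : ℕ} (hf : 3 ≤ f) : 2 * f + 1 ≤ 2 ^ f := by
  induction f, hf using Nat.le_induction with
  | base => norm_num
  | succ n hn ih => rw [pow_succ]; omega

theorem arith_fin {q f' t k : ℕ} (h1 : 2 * t * f' + 1 ≤ q) (hk : k ≤ f' * (t * (q + 1))) :
    2 * k ≤ q ^ 2 + 1 := by
  obtain ⟨r, hr⟩ : ∃ r, q = 2 * t * f' + 1 + r := ⟨q - (2 * t * f' + 1), by omega⟩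
  have h2 : 2 * k ≤ (2 * t * f') * (q + 1) := by
    calc 2 * k ≤ 2 * (f' * (t * (q + 1))) := by omega
      _ = (2 * t * f') * (q + 1) := by ring
  have h3 : (2 * t * f') * (q + 1) ≤ (q - 1) * (q + 1) := Nat.mul_le_mul_right _ (by omega)
  have h4 : (q - 1) * (q + 1) ≤ q ^ 2 + 1 := by
    obtain ⟨s, hs⟩ : ∃ s, q = s + 1 := ⟨q - 1, by omega⟩
    subst hs
    rw [Nat.add_sub_cancel]
    nlinarith
  omega

/-- **two planes** -/
theorem two_two [Fact p.Prime] (hrank : Module.finrank K W = 2) (IH : Lt (Nat.card W)) (hR : ¬ p ∣ Nat.card Rt)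
    (hnor : ∀ T ∈ Rt, ∀ k : K, ∃ k' : K, ∀ w, T (k • w) = k' • T w)
    {Y : Type} [Group Y] (θ : Rt →* Y) (hθ : Function.Surjective θ)
    (hker : ∀ T : Rt, T ∈ θ.ker ↔ ∃ k : K, ∀ w, (T : W ≃ₗ[ZMod p] W) w = k • w)
    (hsc : ∀ k : K, k ≠ 0 → ∃ T ∈ Rt, ∀ w, T w = k • w) (hcard : Nat.card θ.ker + 1 = Nat.card K)
    (h2 : Nat.card K ≠ 2) : 2 * Nat.card (ConjClasses Y) ≤ Nat.card K ^ 2 + 1 := by
  classical
  have hp : p.Prime := Fact.out
  have : Finite (W ≃ₗ[ZMod p] W) := finite_GL W
  have : Finite Y := Finite.of_surjective θ hθ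
  have := Fintype.ofFinite K
  have hWK : Nat.card W = Nat.card K ^ 2 := by
    rw [Module.natCard_eq_pow_finrank (K := K) (V := W), hrank]
  have hK : 1 < Nat.card K := Finite.one_lt_card
  have hW1 : 1 < Nat.card W := by rw [hWK]; nlinarith
  have hWn : Nontrivial W := Finite.one_lt_card_iff_nontrivial.1 hW1
  -- the order of `K` is a power of `p`
  obtain ⟨f, hf⟩ : ∃ f, Nat.card K = p ^ f := by
    have h1 : Nat.card W = p ^ Module.finrank (ZMod p) W := by
      rw [Module.natCard_eq_pow_finrank (K := ZMod p) (V := W), Nat.card_zmod]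
    have h3 : Nat.card K ∣ p ^ Module.finrank (ZMod p) W := by
      rw [← h1, hWK]; exact dvd_pow_self _ (by norm_num)
    obtain ⟨f, -, hf⟩ := (Nat.dvd_prime_pow hp).1 h3
    exact ⟨f, hf⟩
  have hf1 : 1 ≤ f := by
    by_contra hcon
    have : f = 0 := by omega
    subst this
    rw [pow_zero] at hf
    omega
  have hgal : Nat.card (K ≃+* K) = f :=
    Cfsg.Agent.Lib.FieldAutCard.card_ringAut hf1 (by rw [← Nat.card_eq_fintype_card, hf])
  have hidx : (Rl K Rt).index ≤ f := hgal ▸ index_Rl_le hnor
  have hdvd : ((Rl K Rt).map θ).index ∣ (Rl K Rt).index := Subgroup.index_map_dvd _ hθ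
  have hidx0 : 0 < (Rl K Rt).index := Nat.pos_of_ne_zero Subgroup.index_ne_zero_of_finite
  have hidx1 : ((Rl K Rt).map θ).index ≤ (Rl K Rt).index := Nat.le_of_dvd hidx0 hdvd
  have hY : Nat.card (ConjClasses Y) ≤ ((Rl K Rt).map θ).index * Nat.card (ConjClasses ((Rl K Rt).map θ)) :=
    le_index_mul' _
  by_cases hp2 : p = 2
  · -- characteristic two
    subst hp2
    have hchar : (2 : K) = 0 := by
      obtain ⟨w, hw⟩ := exists_ne (0 : W)
      have h3 : (2 : K) • w = 0 := by
        have h4 : (2 : K) • w = (2 : ZMod 2) • w := by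
          rw [show (2 : K) = 1 + 1 by norm_num, show (2 : ZMod 2) = 1 + 1 by norm_num, add_smul, add_smul,
            one_smul, one_smul]
        rw [h4, show (2 : ZMod 2) = 0 from rfl, zero_smul]
      rcases smul_eq_zero.1 h3 with h4 | h4
      · exact h4
      · exact absurd h4 hw
    have h3 := lin_le hrank IH hR θ hker hsc (t := 1) (Or.inr ⟨rfl, hchar⟩)
    have h4 : 2 * 1 * ((Rl K Rt).map θ).index + 1 ≤ Nat.card K := by
      rw [hf]
      rcases Nat.lt_or_ge f 3 with h5 | h5
      · have h6 : f = 2 := by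
          by_contra hcon
          have : f = 1 := by omega
          subst this
          exact h2 (by rw [hf]; norm_num)
        subst h6
        have h7 : ((Rl K Rt).map θ).index ≠ 2 := by
          intro h7
          apply hR
          have h8 := hdvd.trans (Subgroup.index_dvd_card (Rl K Rt))
          rw [h7] at h8
          exact h8
        have h8 : ((Rl K Rt).map θ).index ≤ 1 := by omega
        omega
      · have := arith_two h5
        omega
    refine arith_fin h4 (hY.trans ?_)
    exact Nat.mul_le_mul_left _ h3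
  · by_cases h3 : Nat.card K = 3
    · -- the field with three elements
      have hp3 : p = 3 := by
        rw [h3] at hf
        have h4 : p ∣ 3 := by rw [hf]; exact dvd_pow_self _ (by omega)
        exact (Nat.prime_dvd_prime_iff_eq hp Nat.prime_three).1 h4
      subst hp3
      have h4 : Nat.card W = 3 ^ 2 := by rw [hWK, h3]
      have h5 : Nat.card (W ≃ₗ[ZMod 3] W) = 48 := by rw [card_GL2 h4]; norm_num
      have h6 : Nat.card Rt ∣ 16 := by
        have h7 : Nat.card Rt ∣ 16 * 3 := by
          have := Subgroup.card_subgroup_dvd_card Rt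
          rwa [h5] at this
        exact (Nat.Coprime.dvd_of_dvd_mul_right
          ((Nat.Prime.coprime_iff_not_dvd Nat.prime_three).2 hR).symm h7)
      have h7 : Nat.card θ.ker = 2 := by omega
      have h8 : Nat.card Rt = 2 * Nat.card Y := by
        have h9 := θ.ker.card_mul_index
        rw [Subgroup.index_ker, MonoidHom.range_eq_top.2 hθ, Subgroup.card_top, h7] at h9
        exact h9.symm
      have h9 : Nat.card Y ∣ 8 := by
        rw [h8] at h6
        exact Nat.dvd_of_mul_dvd_mul_left (by norm_num : 0 < 2) (show 2 * Nat.card Y ∣ 2 * 8 from h6)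
      have h10 : Nat.card Y ≠ 8 ∨ ∃ x y : Y, x * y ≠ y * x := by
        by_contra hcon
        push Not at hcon
        obtain ⟨h11, h12⟩ := hcon
        have hc : ∀ z ∈ θ.ker, ∀ x, z * x = x * z := by
          -- an element of order two normal subgroup is central
          intro z hz x
          have h13 : x * z * x⁻¹ ∈ θ.ker := (inferInstance : θ.ker.Normal).conj_mem z hz x
          by_cases hz1 : z = 1
          · rw [hz1, one_mul, mul_one]
          · have h14 : x * z * x⁻¹ ≠ 1 := by
              intro h15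
              apply hz1
              have h16 : x * z = x := by
                have := congrArg (· * x) h15
                simpa using this
              simpa using h16
            have h15 : x * z * x⁻¹ = z := by
              have h16 : Nat.card θ.ker = 2 := h7
              rw [Nat.card_eq_two_iff' (1 : θ.ker)] at h16
              obtain ⟨y, hy, hy'⟩ := h16
              have h17 := hy' ⟨z, hz⟩ (fun h => hz1 (congrArg Subtype.val h))
              have h18 := hy' ⟨_, h13⟩ (fun h => h14 (congrArg Subtype.val h))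
              exact congrArg Subtype.val (h18.trans h17.symm)
            have h16 := congrArg (· * x) h15
            simp only [inv_mul_cancel_right] at h16
            exact h16.symm
        have h13 := nine_le θ hθ hc h7 h11 h12
        have h14 : Nat.card (ConjClasses Rt) < Nat.card W :=
          lt_of_faithful (p := 3) IH hW1 Rt.subtype (Subgroup.subtype_injective _) hR
        rw [h4] at h14
        omega
      have h11 := le_five h9 h10
      rw [h3]
      omega
    · have h4 := lin_le hrank IH hR θ hker hsc (t := 2) (Or.inl rfl)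
      have h5 := arith_odd hp hp2 hf1 (by rw [← hf]; exact h3)
      have h6 : 2 * 2 * ((Rl K Rt).map θ).index + 1 ≤ Nat.card K := by
        rw [hf]
        omega
      refine arith_fin h6 (hY.trans ?_)
      exact Nat.mul_le_mul_left _ h4

end

end Cfsg.Agent.H849.KGV
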