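import Cfsg.Agent.H849.KGV.TensC

/-!
# The tensor case of KGV (task 2303 of helper960)
-/

set_option autoImplicit false

namespace Cfsg.Agent.H849.KGV

open Cfsg.Agent.H960.KGV Cfsg.Agent.H540.ClassNum

/-- a commutative copy of the ring of endomorphisms of a simple module -/
theorem exists_field {B W : Type} [Ring B] [AddCommGroup W] [Module B W] [Finite W]
    (hW : IsSimpleModule B W) :
    ∃ (K : Type) (_ : Field K) (_ : Finite K) (_ : Module K W), Nat.card K = Nat.card (Module.End B W) ∧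
      (∀ (k : K) (b : B) (w : W), k • (b • w) = b • (k • w)) ∧
      (∀ F : W →+ W, (∀ (b : B) (w : W), F (b • w) = b • F w) → ∃ k : K, ∀ w, F w = k • w) := by
  classical
  have hfin : Finite (Module.End B W) := Finite.of_injective (fun f => (f : W → W)) DFunLike.coe_injective
  let i1 : DivisionRing (Module.End B W) := Module.End.instDivisionRing
  let i2 : Field (Module.End B W) := littleWedderburn (Module.End B W)
  obtain ⟨K, iK, ⟨e⟩⟩ : ∃ (K : Type) (_ : Field K), Nonempty (K ≃+* Module.End B W) :=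
    ⟨Module.End B W, i2, ⟨RingEquiv.refl _⟩⟩
  clear i2 i1
  let iKW : Module K W := Module.compHom W e.toRingHom
  have hsm : ∀ (k : K) (w : W), k • w = (e k) w := fun _ _ => rfl
  refine ⟨K, iK, Finite.of_equiv _ e.toEquiv.symm, iKW, Nat.card_congr e.toEquiv, ?_, ?_⟩
  · intro k b w
    rw [hsm, hsm, map_smul]
  · intro F hF
    refine ⟨e.symm { toFun := F, map_add' := map_add F, map_smul' := hF }, ?_⟩
    intro w
    rw [hsm, e.apply_symm_apply]
    rfl

theorem scal_of_card {K W : Type} [Field K] [Finite K] [AddCommGroup W] [Module K W] [Finite W]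
    [Nontrivial W] (h : Nat.card W = Nat.card K) (F : W → W) (hF : ∀ (k : K) (w : W), F (k • w) = k • F w) :
    ∃ k : K, ∀ w, F w = k • w := by
  obtain ⟨w₀, hw₀⟩ := exists_ne (0 : W)
  have h1 : Function.Bijective (fun k : K => k • w₀) := by
    refine (Nat.bijective_iff_injective_and_card _).2 ⟨?_, h.symm⟩
    intro k k' h
    have h0 : k • w₀ = k' • w₀ := h
    have h2 : (k - k') • w₀ = 0 := by rw [sub_smul, sub_eq_zero]; exact h0
    rcases smul_eq_zero.1 h2 with h3 | h3
    · exact sub_eq_zero.1 h3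
    · exact absurd h3 hw₀
  obtain ⟨k, hk⟩ := h1.2 (F w₀)
  have hk' : k • w₀ = F w₀ := hk
  refine ⟨k, fun w => ?_⟩
  obtain ⟨k', rfl⟩ := h1.2 w
  show F (k' • w₀) = k • (k' • w₀)
  rw [hF, ← hk', smul_smul, smul_smul, mul_comm]

theorem small_comm {X W : Type} [Group X] [Finite X] {p : ℕ} [Fact p.Prime] [AddCommGroup W]
    [Module (ZMod p) W] [Finite W] (hp2 : p = 2) (hW : Nat.card W = 4) (τ : X →* (W ≃ₗ[ZMod p] W))
    (hτ : Function.Injective τ) (hX : ¬ p ∣ Nat.card X) : ∀ x y : X, x * y = y * x := by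
  have : Finite (W ≃ₗ[ZMod p] W) := finite_GL W
  have h1 : Nat.card (W ≃ₗ[ZMod p] W) = 6 := by
    rw [card_GL2 (by rw [hW, hp2]; norm_num), hp2]
    norm_num
  have h3 : Nat.card X ∣ 6 := by
    rw [← h1]
    exact Subgroup.card_dvd_of_injective τ hτ
  have h4 : Nat.card X = 1 ∨ Nat.card X = 3 := by
    have h5 : Nat.card X ≤ 6 := Nat.le_of_dvd (by norm_num) h3
    have h6 : 0 < Nat.card X := Nat.card_pos
    rw [hp2] at hX
    generalize Nat.card X = m at *
    interval_cases m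
    · exact Or.inl rfl
    · exact absurd (by norm_num) hX
    · exact Or.inr rfl
    · exact absurd (by norm_num) hX
    · exact absurd h3 (by norm_num)
    · exact absurd (by norm_num) hX
  rcases h4 with h4 | h4
  · intro x y
    have : Subsingleton X := (Nat.card_eq_one_iff_unique.1 h4).1
    exact Subsingleton.elim _ _
  · have : Fact (Nat.Prime 3) := ⟨Nat.prime_three⟩
    have : IsCyclic X := isCyclic_of_prime_card h4
    exact fun x y => mul_comm' x y

section

variable {p : ℕ} {V : Type} [AddCommGroup V] [Module (ZMod p) V]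

attribute [local instance] iM iS iV

/-- `N` is faithful on `W` -/
theorem faithful {N : Subgroup (V ≃ₗ[ZMod p] V)} (W : Submodule (alg N) V)
    (htop : isotypicComponent (alg N) V W = ⊤) {n : V ≃ₗ[ZMod p] V} (hn : n ∈ N)
    (h : ∀ w : W, n (w : V) = w) : n = 1 := by
  have h1 : ∀ m ∈ W, (el hn - 1) • m = 0 := by
    intro m hm
    rw [sub_smul, one_smul, el_smul, h ⟨m, hm⟩, sub_self]
  ext v
  have h2 := Cfsg.Agent.Omega.EH3.Clif.kill_comp h1 v (by rw [htop]; exact Submodule.mem_top)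
  rw [sub_smul, one_smul, el_smul] at h2
  exact sub_eq_zero.1 h2

/-- the action of `N` on `W` -/
def resN {N : Subgroup (V ≃ₗ[ZMod p] V)} (W : Submodule (alg N) V) : N →* (W ≃ₗ[ZMod p] W) where
  toFun n := mkZ
    { toFun := fun w => el n.2 • w
      invFun := fun w => el (N.inv_mem n.2) • w
      left_inv := fun w => by
        apply Subtype.ext
        exact (n : V ≃ₗ[ZMod p] V).symm_apply_apply _
      right_inv := fun w => by
        apply Subtype.ext
        exact (n : V ≃ₗ[ZMod p] V).apply_symm_apply _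
      map_add' := fun _ _ => smul_add _ _ _ }
  map_one' := by
    ext w
    rfl
  map_mul' _ _ := by
    ext w
    rfl

theorem resN_apply {N : Subgroup (V ≃ₗ[ZMod p] V)} (W : Submodule (alg N) V) (n : N) (w : W) :
    ((resN W n w : W) : V) = (n : V ≃ₗ[ZMod p] V) w := rfl

theorem resN_injective {N : Subgroup (V ≃ₗ[ZMod p] V)} (W : Submodule (alg N) V)
    (htop : isotypicComponent (alg N) V W = ⊤) : Function.Injective (resN W) := by
  rw [injective_iff_map_eq_one]
  intro n hn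
  apply Subtype.ext
  apply faithful W htop n.2
  intro w
  rw [← resN_apply, hn]
  rfl

/-- `W` is not of dimension one -/
theorem comm_of_card {N : Subgroup (V ≃ₗ[ZMod p] V)} (W : Submodule (alg N) V)
    (htop : isotypicComponent (alg N) V W = ⊤) (hWn : Nontrivial W) (hWf : Finite W)
    {K : Type} [Field K] [Finite K] [iKW : Module K W]
    (hcomm : ∀ (k : K) (b : alg N) (w : W), k • (b • w) = b • (k • w)) (h : Nat.card W = Nat.card K)
    (x y : N) : x * y = y * x := by
  apply resN_injective W htop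
  have h1 : ∀ n : N, ∃ k : K, ∀ w, resN W n w = k • w := by
    intro n
    exact scal_of_card (K := K) (W := W) h (fun w => resN W n w) (fun k w => (hcomm k (el n.2) w).symm)
  obtain ⟨k, hk⟩ := h1 x
  obtain ⟨k', hk'⟩ := h1 y
  rw [map_mul, map_mul]
  ext w
  show ((resN W x (resN W y w) : W) : V) = ((resN W y (resN W x w) : W) : V)
  rw [hk, hk', hk, hk', smul_smul, smul_smul, mul_comm]

/-- the case of two planes -/
theorem plane_case [Fact p.Prime] [Finite V] {N R : Subgroup (V ≃ₗ[ZMod p] V)}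
    (hRN : ∀ g ∈ R, ∀ x ∈ N, g * x * g⁻¹ ∈ N) (W : Submodule (alg N) V)
    {K : Type} [Field K] [Finite K] [iKW : Module K W]
    (hcomm : ∀ (k : K) (b : alg N) (w : W), k • (b • w) = b • (k • w))
    (hend : ∀ F : W →+ W, (∀ (b : alg N) (w : W), F (b • w) = b • F w) → ∃ k : K, ∀ w, F w = k • w)
    (hrank : Module.finrank K W = 2) (IH : Lt (Nat.card W)) {Rt : Subgroup (W ≃ₗ[ZMod p] W)}
    (hRt : ¬ p ∣ Nat.card Rt) {Y : Type} [Group Y] (θ : Rt →* Y) (hθ : Function.Surjective θ)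
    (hrel : ∀ T ∈ Rt, ∃ g ∈ R, Rel N W T g)
    (hker : ∀ T : Rt, T ∈ θ.ker ↔ ∀ (n : V ≃ₗ[ZMod p] V) (hn : n ∈ N) (w : W),
        (T : W ≃ₗ[ZMod p] W) (el hn • w) = el hn • (T : W ≃ₗ[ZMod p] W) w)
    (hsc : ∀ T : W ≃ₗ[ZMod p] W, (∀ (n : V ≃ₗ[ZMod p] V) (hn : n ∈ N) (w : W),
        T (el hn • w) = el hn • T w) → T ∈ Rt)
    (hcard : Nat.card θ.ker + 1 = Nat.card K) (hQ2 : Nat.card K ≠ 2) :
    2 * Nat.card (ConjClasses Y) ≤ Nat.card K ^ 2 + 1 := by
  have hlin : ∀ F : W →+ W, (∀ (n : V ≃ₗ[ZMod p] V) (hn : n ∈ N) (w : W), F (el hn • w) = el hn • F w) →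
      ∃ k : K, ∀ w, F w = k • w := fun F hF => hend F (fun b w => comm_alg (M := W) (M' := W) F hF b w)
  refine two_two (K := K) (Rt := Rt) hrank IH hRt ?_ θ hθ ?_ ?_ hcard hQ2
  · intro T hT k
    obtain ⟨g, hg, hTg⟩ := hrel T hT
    let sk : W →+ W := { toFun := fun w => k • w, map_zero' := smul_zero k, map_add' := fun _ _ => smul_add k _ _ }
    let F : W →+ W := (T : W ≃+ W).toAddMonoidHom.comp (sk.comp (T.symm : W ≃+ W).toAddMonoidHom)
    have hFa : ∀ w, F w = T (k • T.symm w) := fun _ => rfl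
    obtain ⟨k', hk'⟩ := hlin F (by
      intro n hn w
      rw [hFa, hFa]
      have h4 : T.symm (el hn • w) = el (inv_conj hRN hg hn) • T.symm w := by
        rw [LinearEquiv.symm_apply_eq]
        apply Subtype.ext
        rw [hTg, LinearEquiv.apply_symm_apply, coe_el_smul]
        have h6 : g * (g⁻¹ * n * g) * g⁻¹ = n := by group
        rw [h6]
      rw [h4, hcomm]
      apply Subtype.ext
      rw [hTg, coe_el_smul]
      have h5 : g * (g⁻¹ * n * g) * g⁻¹ = n := by group
      rw [h5])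
    refine ⟨k', fun w => ?_⟩
    have h4 := hk' (T w)
    rw [hFa, LinearEquiv.symm_apply_apply] at h4
    exact h4
  · intro T
    rw [hker]
    constructor
    · intro h
      exact hlin ((T : W ≃ₗ[ZMod p] W) : W ≃+ W).toAddMonoidHom h
    · rintro ⟨k, hk⟩ n hn w
      rw [hk, hk, hcomm]
  · intro k hk
    let T : W ≃ₗ[ZMod p] W := mkZ
      { toFun := fun w => k • w
        invFun := fun w => k⁻¹ • w
        left_inv := fun w => by
          show k⁻¹ • (k • w) = w
          rw [smul_smul, inv_mul_cancel₀ hk, one_smul]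
        right_inv := fun w => by
          show k • (k⁻¹ • w) = w
          rw [smul_smul, mul_inv_cancel₀ hk, one_smul]
        map_add' := fun _ _ => smul_add _ _ _ }
    exact ⟨T, hsc T (fun n hn w => hcomm k (el hn) w), fun _ => rfl⟩

/-- final computation -/
theorem final_num {Q a b r r1 y : ℕ} (hK1 : 1 < Q) (ha : 2 ≤ a) (hb : 2 ≤ b) (hk : r ≤ r1 * y)
    (hR1 : r1 < Q ^ b) (hy : y < Q ^ a) (h22 : a = 2 → b = 2 → 2 * y ≤ Q ^ 2 + 1) : 2 * r ≤ Q ^ (a * b) := by
  by_cases h : a = 2 ∧ b = 2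
  · obtain ⟨rfl, rfl⟩ := h
    have h3 := h22 rfl rfl
    have h4 : 2 * r ≤ (Q ^ 2 - 1) * (Q ^ 2 + 1) := by
      calc 2 * r ≤ 2 * (r1 * y) := Nat.mul_le_mul_left _ hk
        _ = r1 * (2 * y) := by ring
        _ ≤ (Q ^ 2 - 1) * (Q ^ 2 + 1) := Nat.mul_le_mul (by omega) h3
    refine h4.trans ?_
    obtain ⟨s, hs⟩ : ∃ s, Q ^ 2 = s + 1 := ⟨Q ^ 2 - 1, by
      have : 1 ≤ Q ^ 2 := Nat.one_le_pow _ _ (by omega)
      omega⟩
    have h5 : Q ^ (2 * 2) = Q ^ 2 * Q ^ 2 := by ring
    rw [h5, hs, Nat.add_sub_cancel]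
    nlinarith
  · have h3 : a + b + 1 ≤ a * b := by
      obtain ⟨a', rfl⟩ : ∃ a', a = a' + 2 := ⟨a - 2, by omega⟩
      obtain ⟨b', rfl⟩ : ∃ b', b = b' + 2 := ⟨b - 2, by omega⟩
      have h6 : 1 ≤ a' + b' := by
        by_contra hcon
        apply h
        constructor <;> omega
      nlinarith
    calc 2 * r
        ≤ 2 * (r1 * y) := Nat.mul_le_mul_left _ hk
      _ ≤ 2 * (Q ^ b * Q ^ a) := Nat.mul_le_mul_left _ (Nat.mul_le_mul hR1.le hy.le)
      _ = 2 * Q ^ (a + b) := by rw [← pow_add, add_comm b a]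
      _ ≤ Q * Q ^ (a + b) := Nat.mul_le_mul_right _ hK1
      _ = Q ^ (a + b + 1) := by rw [pow_succ, mul_comm]
      _ ≤ Q ^ (a * b) := Nat.pow_le_pow_right (by omega) h3

/-- **the tensor case, with the data chosen** -/
theorem tensor_aux [Fact p.Prime] [Finite V] (IH : ∀ m < Nat.card V, Lt m)
    (N R : Subgroup (V ≃ₗ[ZMod p] V)) (hN : ¬ p ∣ Nat.card N) (hNc : ∃ x ∈ N, ∃ y ∈ N, x * y ≠ y * x)
    (hR : ¬ p ∣ Nat.card R) (hRN : ∀ g ∈ R, ∀ x ∈ N, g * x * g⁻¹ ∈ N) (hss : IsSemisimpleModule (alg N) V)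
    (hiso : IsIsotypic (alg N) V) (hns : ¬ IsSimpleModule (alg N) V) (W : Submodule (alg N) V)
    (hW : IsSimpleModule (alg N) W) : 2 * Nat.card (ConjClasses R) ≤ Nat.card V := by
  classical
  have hp : p.Prime := Fact.out
  have hfGV : Finite (V ≃ₗ[ZMod p] V) := finite_GL V
  have hfGW : Finite (W ≃ₗ[ZMod p] W) := finite_GL W
  have htop : isotypicComponent (alg N) V W = ⊤ := isotypicComponent_eq_top_iff.2 (hiso W)
  obtain ⟨b, hb1, hb2⟩ := Cfsg.Agent.Omega.EH3.Clif.card_iso hW htop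
  obtain ⟨K, _, _, iKW, hKe, hcomm, hend⟩ := exists_field (B := alg N) (W := W) hW
  rw [← hKe] at hb2
  have hWn : Nontrivial W := IsSimpleModule.nontrivial (alg N) W
  have hK1 : 1 < Nat.card K := Finite.one_lt_card
  have hWK : Nat.card W = Nat.card K ^ Module.finrank K W :=
    Module.natCard_eq_pow_finrank (K := K) (V := W)
  obtain ⟨a, ha⟩ : ∃ a, Module.finrank K W = a := ⟨_, rfl⟩
  rw [ha] at hWK
  -- the order of `K` is a power of `p`
  have hW1 : 1 < Nat.card W := Finite.one_lt_card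
  have ha0 : a ≠ 0 := by
    rintro rfl
    rw [pow_zero] at hWK
    omega
  obtain ⟨f, hf⟩ : ∃ f, Nat.card K = p ^ f := by
    have h1 : Nat.card W = p ^ Module.finrank (ZMod p) W := by
      rw [Module.natCard_eq_pow_finrank (K := ZMod p) (V := W), Nat.card_zmod]
    have h3 : Nat.card K ∣ p ^ Module.finrank (ZMod p) W := by
      rw [← h1, hWK]; exact dvd_pow_self _ ha0
    obtain ⟨f, -, hf⟩ := (Nat.dvd_prime_pow hp).1 h3
    exact ⟨f, hf⟩
  have hf1 : f ≠ 0 := by
    rintro rfl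
    rw [pow_zero] at hf
    omega
  have hb0 : b ≠ 0 := by
    rintro rfl
    rw [pow_zero] at hb1
    have h1 : Nat.card W ≤ Nat.card V := Nat.card_le_card_of_injective _ W.subtype_injective
    omega
  -- `b ≠ 1`
  have hb : b ≠ 1 := by
    rintro rfl
    rw [pow_one] at hb1
    apply hns
    have h1 : W = ⊤ := by
      rw [eq_top_iff]
      intro v _
      have h2 : Function.Bijective W.subtype :=
        (Nat.bijective_iff_injective_and_card _).2 ⟨W.subtype_injective, hb1.symm⟩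
      obtain ⟨w, hw⟩ := h2.2 v
      rw [← hw]
      exact w.2
    have h2 := isSimpleModule_iff_isAtom.1 hW
    rw [h1] at h2
    rw [isSimpleModule_iff]
    have h3 : Nontrivial (Submodule (alg N) V) := ⟨⊤, ⊥, h2.1⟩
    exact { eq_bot_or_eq_top := fun X => by
              rcases eq_or_lt_of_le (le_top : X ≤ ⊤) with h4 | h4
              · exact Or.inr h4
              · exact Or.inl (h2.2 X h4) }
  -- `a ≠ 1`
  have ha1 : a ≠ 1 := by
    rintro rfl
    rw [pow_one] at hWK
    obtain ⟨x, hx, y, hy, hxy⟩ := hNc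
    exact hxy (congrArg Subtype.val (comm_of_card W htop hWn inferInstance (K := K) hcomm hWK ⟨x, hx⟩ ⟨y, hy⟩))
  obtain ⟨Rt, Y, _, _, θ, hθ, hrel, hker, hsc, hk, hYR⟩ :=
    main_hom W hRN hiso hW (fun n hn h => faithful W htop hn h)
  have hcard : Nat.card θ.ker + 1 = Nat.card K := by
    rw [hKe]
    exact card_ker W hW θ hker hsc
  -- `p` does not divide the order of `Rt`
  have hRt : ¬ p ∣ Nat.card Rt := by
    intro h
    have h1 := θ.ker.card_mul_index
    rw [Subgroup.index_ker, MonoidHom.range_eq_top.2 hθ, Subgroup.card_top] at h1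
    rw [← h1] at h
    rcases (Nat.Prime.dvd_mul hp).1 h with h2 | h2
    · have h3 : p ∣ Nat.card θ.ker + 1 := by
        rw [hcard, hf]; exact dvd_pow_self _ hf1
      have h4 := (Nat.dvd_add_right h2).1 h3
      exact hp.one_lt.ne' (Nat.dvd_one.1 h4)
    · exact hR (h2.trans hYR)
  have hVQ : Nat.card V = Nat.card K ^ (a * b) := by rw [hb1, hWK, pow_mul]
  -- the two bounds
  have hQa : Nat.card K ^ a < Nat.card V := by
    rw [hVQ]
    apply Nat.pow_lt_pow_right hK1
    have : 2 ≤ b := by omega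
    have : 1 ≤ a := by omega
    nlinarith
  have hQb : Nat.card K ^ b < Nat.card V := by
    rw [hVQ]
    apply Nat.pow_lt_pow_right hK1
    have : 2 ≤ a := by omega
    have : 1 ≤ b := by omega
    nlinarith
  have hR1 : Nat.card (ConjClasses (R1 N R)) < Nat.card K ^ b := by
    have h1 := cent_lt (R := R) W htop hR (by rw [hb2]; exact Nat.one_lt_pow hb0 hK1)
      (by rw [hb2]; exact IH _ hQb)
    rwa [hb2] at h1
  have hYt : Nat.card (ConjClasses Y) ≤ Nat.card (ConjClasses Rt) := card_conjClasses_le_of_surjective θ hθ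
  have hIHW : Lt (Nat.card W) := by
    rw [hWK]; exact IH _ hQa
  have hRtl : Nat.card (ConjClasses Rt) < Nat.card K ^ a := by
    rw [← hWK]
    exact lt_of_faithful (p := p) hIHW hW1 Rt.subtype (Subgroup.subtype_injective _) hRt
  rw [hVQ]
  refine final_num hK1 (by omega) (by omega) hk hR1 (hYt.trans_lt hRtl) ?_
  rintro rfl rfl
  have hQ2 : Nat.card K ≠ 2 := by
    intro hQ2
    have hp2 : p = 2 := by
      have h1 : p ∣ 2 := by rw [← hQ2, hf]; exact dvd_pow_self _ hf1
      exact (Nat.prime_dvd_prime_iff_eq hp Nat.prime_two).1 h1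
    obtain ⟨x, hx, y, hy, hxy⟩ := hNc
    have h5 := small_comm (p := p) hp2 (by rw [hWK, hQ2]; norm_num) (resN W) (resN_injective W htop) hN
    exact hxy (congrArg Subtype.val (h5 ⟨x, hx⟩ ⟨y, hy⟩))
  exact plane_case hRN W hcomm hend ha hIHW hRt θ hθ hrel hker hsc hcard hQ2

end

variable {p : ℕ} [Fact p.Prime] {V : Type} [AddCommGroup V] [Module (ZMod p) V] [Finite V]

/-- **the tensor case** (task 2303 of helper960) -/
theorem tensor_case (IH : ∀ m < Nat.card V, Lt m) (N R : Subgroup (V ≃ₗ[ZMod p] V)) (hN : ¬ p ∣ Nat.card N)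
    (hNc : ∃ x ∈ N, ∃ y ∈ N, x * y ≠ y * x) (hR : ¬ p ∣ Nat.card R)
    (hRN : ∀ g ∈ R, ∀ x ∈ N, g * x * g⁻¹ ∈ N) (hss : IsSemisimpleModule (alg N) V)
    (hiso : IsIsotypic (alg N) V) (hns : ¬ IsSimpleModule (alg N) V) :
    2 * Nat.card (ConjClasses R) ≤ Nat.card V := by
  have hVn : Nontrivial V := by
    obtain ⟨x, -, y, -, hxy⟩ := hNc
    by_contra hcon
    rw [not_nontrivial_iff_subsingleton] at hcon
    apply hxy
    ext v
    exact Subsingleton.elim _ _
  obtain ⟨W, hW⟩ := IsAtomic.exists_atom (Submodule (alg N) V)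
  exact tensor_aux IH N R hN hNc hR hRN hss hiso hns W (isSimpleModule_iff_isAtom.2 hW)

end Cfsg.Agent.H849.KGV

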